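import Cfsg.Agent.Lib.SLDeg.Tools

/-!
# The smallest degree of `SL_n`
* `gl_chain` : the recursion on Levi parts
* `sl_bound` : a non-trivial representation of `SL_{m+1}(q)` has degree at least `q^m + ... + q`
-/

set_option autoImplicit false

open Matrix
open scoped LinearAlgebra.Projectivization

namespace Cfsg.Agent.SLDeg

variable {F : Type*} [Field F]

/-- Transport of `GL` along an equivalence of index types. -/
def glCongr {α β : Type} [Fintype α] [DecidableEq α] [Fintype β] [DecidableEq β] (e : α ≃ β) :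
    GL α F ≃* GL β F :=
  Units.mapEquiv (Matrix.reindexAlgEquiv F F e).toMulEquiv

/-- Transport of `SL` along an equivalence of index types. -/
def slCongr {α β : Type} [Fintype α] [DecidableEq α] [Fintype β] [DecidableEq β] (e : α ≃ β) :
    SpecialLinearGroup α F ≃* SpecialLinearGroup β F where
  toFun g := ⟨Matrix.reindex e e g.1, by rw [Matrix.det_reindex_self]; exact g.2⟩
  invFun g := ⟨Matrix.reindex e.symm e.symm g.1, by rw [Matrix.det_reindex_self]; exact g.2⟩
  left_inv g := Subtype.ext (by ext i j; simp)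
  right_inv g := Subtype.ext (by ext i j; simp)
  map_mul' g h := Subtype.ext (by
    show Matrix.reindex e e (g.1 * h.1) = Matrix.reindex e e g.1 * Matrix.reindex e e h.1
    rw [← Matrix.coe_reindexAlgEquiv F F e, map_mul])

theorem glCongr_tvGL {α β : Type} [Fintype α] [DecidableEq α] [Fintype β] [DecidableEq β]
    (e : α ≃ β) {a b : α} (hab : a ≠ b) {c d : β} (hcd : c ≠ d) (hc : e a = c) (hd : e b = d)
    (t : F) : glCongr e (tvGL hab t) = tvGL hcd t := by
  refine Units.ext (Matrix.ext fun i j => ?_)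
  show (tvGL hab t).1 (e.symm i) (e.symm j) = _
  subst hc hd
  simp [tvGL_val, Matrix.one_apply, Matrix.vecMulVec_apply, Pi.single_apply,
    Equiv.symm_apply_eq]

variable {m : ℕ}

theorem levGL_tvGL {i j : Fin m} (hij : i ≠ j) (t : F)
    (h : (Sum.inl i : Fin m ⊕ Fin 1) ≠ Sum.inl j) :
    levGL (tvGL hij t) = tvGL h t := by
  refine gl_ext_mulVec fun v => funext fun k => ?_
  rw [tvGL_mulVec]
  show (fromBlocks (tvGL hij t).1 0 0 1 *ᵥ v) k = _
  rw [blk_mulVec]
  rcases k with k | k <;> simp [tvGL_mulVec]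

theorem levSL_tvGL {i j : Fin m} (hij : i ≠ j) (t : F)
    (h : (Sum.inl i : Fin m ⊕ Fin 1) ≠ Sum.inl j) :
    levSL (tvGL hij t) = SpecialLinearGroup.transvection h t := by
  have hd : (tvGL hij t).1.det = 1 := (SpecialLinearGroup.transvection hij t).2
  refine Linear.sl_ext_smul fun v => funext fun k => ?_
  rw [Linear.transvection_smul_apply]
  show (fromBlocks (tvGL hij t).1 0 0 ((tvGL hij t).1.det⁻¹ • 1) *ᵥ v) k = _
  rw [blk_mulVec, hd]
  rcases k with k | k <;> simp [tvGL_mulVec]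

theorem goodTwist_glRad : GoodTwist (glRad F m) :=
  ⟨fun _ _ => (one_mul (1 : F)).symm, fun _ => rfl⟩

theorem goodTwist_slRad : GoodTwist (slRad F m) :=
  ⟨fun A B => Matrix.det_mul A.1 B.1, fun g => g.2⟩

theorem trans_glRad (hm : 1 ≤ m) : (glRad F m).Trans := by
  intro s t hs ht
  let i : Fin m := ⟨0, hm⟩
  obtain ⟨g, hg⟩ := Cfsg.Agent.AutPSL.exists_gl_point hs i
  obtain ⟨h, hh⟩ := Cfsg.Agent.AutPSL.exists_gl_point ht i
  refine ⟨h * g⁻¹, ?_⟩
  show (1 : F) • ((h * g⁻¹).1 *ᵥ s) = t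
  rw [one_smul, ← hg, Matrix.mulVec_mulVec, ← Units.val_mul, inv_mul_cancel_right, hh]

theorem trans_slRad (hm : 2 ≤ m) : (slRad F m).Trans := by
  intro s t hs ht
  have : Nontrivial (Fin m) := Fintype.one_lt_card_iff_nontrivial.1 (by rw [Fintype.card_fin]; omega)
  obtain ⟨g, hg⟩ := Linear.exists_sl_smul_eq hs ht
  refine ⟨Matrix.SpecialLinearGroup.toGL g, ?_⟩
  show g.1.det • (g.1 *ᵥ s) = t
  rw [g.2, one_smul]
  exact hg

variable [Fintype F] [DecidableEq F]

theorem exists_unit_ne_one (hq : 3 ≤ Fintype.card F) : ∃ r : Fˣ, (r : F) ≠ 1 := by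
  by_contra! h
  have : (Finset.univ : Finset F) ⊆ {0, 1} := fun x _ => by
    by_cases hx : x = 0
    · simp [hx]
    · simp [← h (Units.mk0 x hx)]
  have := (Finset.card_le_card this).trans Finset.card_le_two
  rw [Finset.card_univ] at this
  omega

theorem exists_sq_ne_one (hq : 4 ≤ Fintype.card F) : ∃ a : Fˣ, (a : F) ^ 2 ≠ 1 := by
  by_contra! h
  have : (Finset.univ : Finset F) ⊆ {0, 1, -1} := fun x _ => by
    by_cases hx : x = 0
    · simp [hx]
    · rcases sq_eq_one_iff.1 (h (Units.mk0 x hx)) with e | e <;> simp at e <;> simp [e]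
  have := (Finset.card_le_card this).trans Finset.card_le_three
  rw [Finset.card_univ] at this
  omega

theorem exists_cube_ne_one (h2 : Fintype.card F ≠ 2) (h4 : Fintype.card F ≠ 4) :
    ∃ a : Fˣ, (a : F) ^ 3 ≠ 1 := by
  by_contra! h
  have hone := Fintype.one_lt_card (α := F)
  rcases Nat.lt_or_ge (Fintype.card F) 5 with h5 | h5
  · have h3 : Fintype.card F = 3 := by omega
    have hm := h (-1)
    rw [Units.val_neg, Units.val_one, Odd.neg_one_pow (by decide)] at hm
    have h2' : (2 : F) = 0 := by linear_combination -hm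
    have h1 := Nat.cast_card_eq_zero F
    rw [h3] at h1
    exact one_ne_zero (α := F) (by push_cast at h1; linear_combination h1 - h2')
  · have hsub : (Finset.univ.erase (0 : F)) ⊆
        (Polynomial.nthRoots 3 (1 : F)).toFinset := fun x hx => by
      rw [Multiset.mem_toFinset, Polynomial.mem_nthRoots (by norm_num)]
      exact h (Units.mk0 x (Finset.ne_of_mem_erase hx))
    have := ((Finset.card_le_card hsub).trans (Multiset.toFinset_card_le _)).trans
      (Polynomial.card_nthRoots 3 _)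
    rw [Finset.card_erase_of_mem (Finset.mem_univ _), Finset.card_univ] at this
    omega

theorem stabComm_glRad (hq : 3 ≤ Fintype.card F) (k : ℕ) :
    StabComm (glRad F (k + 2)) 0 1 (Fin.zero_ne_one) := by
  obtain ⟨r, hr⟩ := exists_unit_ne_one hq
  match k with
  | 0 =>
    exact stabComm_two goodTwist_glRad (a := 1) (b := r)
      (by simpa [div_eq_one_iff_eq, eq_comm] using hr) (by simp [glRad])
  | 1 =>
    exact stabComm_three goodTwist_glRad (a := r) (b := 1) (by simpa using hr) (by simp [glRad])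
  | k + 2 => exact stabComm_large goodTwist_glRad (by omega) _

theorem stabComm_slRad (k : ℕ) (h2 : k = 0 → Fintype.card F ≠ 2 ∧ Fintype.card F ≠ 4)
    (h3 : k = 1 → 4 ≤ Fintype.card F) :
    StabComm (slRad F (k + 2)) 0 1 (Fin.zero_ne_one) := by
  match k, h2, h3 with
  | 0, h2, _ =>
    obtain ⟨a, ha⟩ := exists_cube_ne_one (h2 rfl).1 (h2 rfl).2
    refine stabComm_two goodTwist_slRad (a := a) (b := (a ^ 2)⁻¹) ?_ ?_
    · have : (a : F) / (((a ^ 2)⁻¹ : Fˣ) : F) = (a : F) ^ 3 := by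
        rw [Units.val_inv_eq_inv_val, div_inv_eq_mul, Units.val_pow_eq_pow_val]
        ring
      rwa [this]
    · show (diagGL ![a, (a ^ 2)⁻¹]).1.det * (a : F) = 1
      rw [show (diagGL ![a, (a ^ 2)⁻¹]).1 = Matrix.diagonal fun k => ((![a, (a ^ 2)⁻¹] k : Fˣ) : F)
        from rfl, Matrix.det_diagonal, Fin.prod_univ_two]
      simp only [Matrix.cons_val_zero, Matrix.cons_val_one, Units.val_inv_eq_inv_val,
        Units.val_pow_eq_pow_val]
      field_simp
  | 1, _, h3 =>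
    obtain ⟨a, ha⟩ := exists_sq_ne_one (h3 rfl)
    refine stabComm_three goodTwist_slRad (a := a) (b := a⁻¹) ?_ ?_
    · simpa [sq] using ha
    · show (diagGL ![a, a⁻¹, 1]).1.det = 1
      rw [show (diagGL ![a, a⁻¹, 1]).1 = Matrix.diagonal fun k => ((![a, a⁻¹, 1] k : Fˣ) : F)
        from rfl, Matrix.det_diagonal, Fin.prod_univ_three]
      simp
  | k + 2, _, _ => exact stabComm_large goodTwist_slRad (by omega) _

/-- `(q^k - 1) + ... + (q - 1)`. -/
def cB (q : ℕ) : ℕ → ℕ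
  | 0 => 0
  | k + 1 => q ^ (k + 1) - 1 + cB q k

/-- `q^k + ... + q`. -/
def bB (q : ℕ) : ℕ → ℕ
  | 0 => 0
  | k + 1 => q ^ (k + 1) + bB q k

universe uw

theorem gl_weights {W : Type uw} [AddCommGroup W] [Module ℂ W] [FiniteDimensional ℂ W]
    {ψ : AddChar F ℂ} (hψ : ψ ≠ 1) {k : ℕ} (σ : Representation ℂ (GL (Fin (k + 1) ⊕ Fin 1) F) W)
    {a b : Fin (k + 1) ⊕ Fin 1} (hab : a ≠ b)
    (h : LinearMap.trace ℂ W (σ (tvGL hab 1)) =
      (Module.finrank ℂ W : ℂ) - (Fintype.card F : ℂ) ^ (k + 1)) :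
    (glRad F (k + 1)).rk σ ψ (Pi.single 0 1) = 1 ∧
      Module.finrank ℂ W = Fintype.card F ^ (k + 1) - 1 + (glRad F (k + 1)).rk σ ψ 0 := by
  obtain ⟨c, hc⟩ := isConj_iff.1 (isConj_tv_gl (F := F) hab
    (show (Sum.inr 0 : Fin (k + 1) ⊕ Fin 1) ≠ Sum.inl 0 from Sum.inr_ne_inl))
  have hu : LinearMap.trace ℂ W (σ ((glRad F (k + 1)).u (Pi.single 0 1))) =
      (Module.finrank ℂ W : ℂ) - (Fintype.card F : ℂ) ^ (k + 1) := by
    rw [← h, show (glRad F (k + 1)).u (Pi.single 0 1) = c * tvGL hab 1 * c⁻¹ by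
      rw [hc]; exact congrArg Matrix.SpecialLinearGroup.toGL (uSL_single 0 1)]
    exact Representation.char_conj σ _ c
  have he : (Pi.single 0 1 : Fin (k + 1) → F) ≠ 0 := by simp
  have h1 := (glRad F (k + 1)).mu_eq_one σ ψ hψ (trans_glRad (by omega)) he he hu
  refine ⟨h1, ?_⟩
  rw [(glRad F (k + 1)).finrank_eq σ ψ hψ (trans_glRad (by omega)) he, h1, mul_one]

theorem gl_chain (hq : 3 ≤ Fintype.card F) : ∀ (k : ℕ) (W : Type uw) [AddCommGroup W] [Module ℂ W]
    [FiniteDimensional ℂ W] (σ : Representation ℂ (GL (Fin (k + 1) ⊕ Fin 1) F) W)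
    {a b : Fin (k + 1) ⊕ Fin 1} (hab : a ≠ b),
    LinearMap.trace ℂ W (σ (tvGL hab 1)) =
      (Module.finrank ℂ W : ℂ) - (Fintype.card F : ℂ) ^ (k + 1) →
    cB (Fintype.card F) (k + 1) ≤ Module.finrank ℂ W := by
  obtain ⟨ψ, hψ⟩ := AddChar.exists_apply_ne_zero.2 (one_ne_zero : (1 : F) ≠ 0)
  have hψ : ψ ≠ 1 := fun h => hψ (by rw [h]; rfl)
  intro k
  induction k with
  | zero =>
    intro W _ _ _ σ a b hab h
    obtain ⟨-, hd⟩ := gl_weights hψ σ hab h
    simp [cB] at hd ⊢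
    omega
  | succ k ih =>
    intro W _ _ _ σ a b hab h
    obtain ⟨h1, hd⟩ := gl_weights hψ σ hab h
    have hl : (Sum.inl 0 : Fin (k + 2) ⊕ Fin 1) ≠ Sum.inl 1 := by simp
    have hs := step (R := glRad F (k + 2)) goodTwist_glRad (trans_glRad (by omega)) σ hψ _
      (stabComm_glRad hq k) (x := Pi.single 0 1) (by simp) ?_ (e := Pi.single 0 1) (by simp) h1
    · let e : Fin (k + 1) ⊕ Fin 1 ≃ Fin (k + 2) := finSumFinEquiv
      have hab' : e.symm 0 ≠ e.symm 1 := fun h => Fin.zero_ne_one (e.symm.injective h)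
      have := ih _ (((glRad F (k + 2)).fixedRep σ ψ).comp (glCongr e).toMonoidHom) hab' (by
        show LinearMap.trace ℂ _ ((glRad F (k + 2)).fixedRep σ ψ (glCongr e (tvGL hab' 1))) = _
        rw [glCongr_tvGL e hab' Fin.zero_ne_one (e.apply_symm_apply _) (e.apply_symm_apply _)]
        simpa using hs)
      rw [(glRad F (k + 2)).finrank_fixedSpace σ ψ] at this
      rw [hd]
      exact Nat.add_le_add_left this _
    · show IsConj (Matrix.SpecialLinearGroup.toGL (uSL _)) (levGL _)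
      rw [uSL_single, levGL_tvGL _ _ hl]
      exact isConj_tv_gl _ hl

/-! ## Points -/

omit [DecidableEq F] in
theorem card_points (m : ℕ) :
    Nat.card (ℙ F (Fin m ⊕ Fin 1 → F)) = bB (Fintype.card F) m + 1 := by
  have h := Projectivization.card F (Fin m ⊕ Fin 1 → F)
  rw [Nat.card_fun, Nat.card_sum, Nat.card_fin, Nat.card_fin, Nat.card_eq_fintype_card (α := F)] at h
  have hq := Fintype.one_lt_card (α := F)
  have hb : ∀ k, (bB (Fintype.card F) k + 1) * (Fintype.card F - 1) + 1 =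
      Fintype.card F ^ (k + 1) := by
    intro k
    induction k with
    | zero => simp [bB]; omega
    | succ k ih =>
      obtain ⟨p, hp⟩ : ∃ p, Fintype.card F = p + 1 := ⟨_, (Nat.succ_pred_eq_of_pos (by omega)).symm⟩
      simp only [bB, hp, Nat.add_sub_cancel] at ih ⊢
      rw [pow_succ (p + 1) (k + 1), ← ih]
      ring_nf
  refine Nat.eq_of_mul_eq_mul_right (show 0 < Fintype.card F - 1 by omega) ?_
  have := hb m
  omega

theorem sl_two_point (hm : 2 ≤ m) (a y z : ℙ F (Fin m ⊕ Fin 1 → F)) (hy : y ≠ a) (hz : z ≠ a) :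
    ∃ g : SpecialLinearGroup (Fin m ⊕ Fin 1) F, g • a = a ∧ g • y = z := by
  let p : Fin m ⊕ Fin 1 := Sum.inl ⟨0, by omega⟩
  let r : Fin m ⊕ Fin 1 := Sum.inl ⟨1, by omega⟩
  have hpr : p ≠ r := by simp [p, r]
  have hli : ∀ w : ℙ F (Fin m ⊕ Fin 1 → F), w ≠ a → LinearIndependent F ![a.rep, w.rep] := by
    intro w hw
    rw [LinearIndependent.pair_iff' a.rep_nonzero]
    intro c hc
    refine hw ?_
    rw [← w.mk_rep, ← a.mk_rep, Projectivization.mk_eq_mk_iff']
    exact ⟨c, hc⟩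
  obtain ⟨g₁, h11, h12⟩ := exists_sl_two hpr (c := Sum.inr 0) (by simp [p]) (by simp [r]) (hli y hy)
  obtain ⟨g₂, h21, h22⟩ := exists_sl_two hpr (c := Sum.inr 0) (by simp [p]) (by simp [r]) (hli z hz)
  have k1 : g₁⁻¹ • a.rep = (Pi.single p 1 : Fin m ⊕ Fin 1 → F) :=
    inv_smul_eq_iff.2 h11.symm
  have k2 : g₁⁻¹ • y.rep = (Pi.single r 1 : Fin m ⊕ Fin 1 → F) :=
    inv_smul_eq_iff.2 h12.symm
  refine ⟨g₂ * g₁⁻¹, ?_, ?_⟩
  · conv_rhs => rw [← a.mk_rep]
    conv_lhs => rw [← a.mk_rep, Projectivization.smul_mk]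
    congr 1
    rw [mul_smul, k1]
    exact h21
  · conv_rhs => rw [← z.mk_rep]
    conv_lhs => rw [← y.mk_rep, Projectivization.smul_mk]
    congr 1
    rw [mul_smul, k2]
    exact h22

omit [Fintype F] [DecidableEq F] in
theorem isPretransitive_points (hm : 2 ≤ m) :
    MulAction.IsPretransitive (SpecialLinearGroup (Fin m ⊕ Fin 1) F)
      (ℙ F (Fin m ⊕ Fin 1 → F)) := by
  refine ⟨fun a y => ?_⟩
  have : Nontrivial (Fin m ⊕ Fin 1) := ⟨⟨Sum.inl ⟨0, by omega⟩, Sum.inr 0, Sum.inl_ne_inr⟩⟩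
  obtain ⟨g, hg⟩ := Linear.exists_sl_smul_eq a.rep_nonzero y.rep_nonzero
  refine ⟨g, ?_⟩
  conv_rhs => rw [← y.mk_rep]
  conv_lhs => rw [← a.mk_rep, Projectivization.smul_mk]
  congr 1

/-- A vector fixed by a point stabiliser is fixed, or spans a large space. -/
theorem fixed_dichotomy (hm : 2 ≤ m) {W : Type uw} [AddCommGroup W] [Module ℂ W]
    [FiniteDimensional ℂ W] (ρ : Representation ℂ (SpecialLinearGroup (Fin m ⊕ Fin 1) F) W)
    (w : W) (hu : ∀ x, ρ (uSL x) w = w) (hL : ∀ A, ρ (levSL A) w = w) :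
    (∀ g, ρ g w = w) ∨ bB (Fintype.card F) m ≤ Module.finrank ℂ W := by
  classical
  letI : Fintype (ℙ F (Fin m ⊕ Fin 1 → F)) := Fintype.ofFinite _
  let x₀ : ℙ F (Fin m ⊕ Fin 1 → F) :=
    Projectivization.mk F (Pi.single (Sum.inr 0) 1) (by simp)
  have hstab : ∀ g : SpecialLinearGroup (Fin m ⊕ Fin 1) F, g • x₀ = x₀ → ρ g w = w := by
    intro g hg
    obtain ⟨c, hc⟩ := (Projectivization.mk_eq_mk_iff' F _ _ _ _).1
      (show Projectivization.mk F (g • (Pi.single (Sum.inr 0) 1 : Fin m ⊕ Fin 1 → F))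
          ((smul_ne_zero_iff_ne g).2 (by simp)) =
        Projectivization.mk F (Pi.single (Sum.inr 0) 1) (by simp) by
          rw [← Projectivization.smul_mk]; exact hg)
    have hB : g.1.toBlocks₁₂ = 0 := Matrix.ext fun i j => by
      obtain rfl : j = 0 := Subsingleton.elim _ _
      have := congrFun hc (Sum.inl i)
      change c * (Pi.single (Sum.inr 0) (1 : F) : Fin m ⊕ Fin 1 → F) (Sum.inl i) =
        (g.1 *ᵥ Pi.single (Sum.inr 0) 1) (Sum.inl i) at this
      simp [Matrix.toBlocks₁₂] at this ⊢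
      exact this.symm
    set A := g.1.toBlocks₁₁
    set r := g.1.toBlocks₂₁
    set d := g.1.toBlocks₂₂
    have hg1 : g.1 = fromBlocks A 0 r d := by rw [← hB]; exact (fromBlocks_toBlocks g.1).symm
    have hdet := g.2
    rw [hg1, Matrix.det_fromBlocks_zero₁₂, Matrix.det_fin_one d] at hdet
    have hA : A.det ≠ 0 := left_ne_zero_of_mul_eq_one hdet
    let Ag : GL (Fin m) F := Matrix.GeneralLinearGroup.mkOfDetNeZero A hA
    have hd : d = A.det⁻¹ • 1 := Matrix.ext fun i j => by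
      rw [Subsingleton.elim i 0, Subsingleton.elim j 0]
      simpa using (eq_inv_of_mul_eq_one_right hdet)
    have : g = levSL Ag * uSL (A.det • r 0) := by
      refine Subtype.ext ?_
      show g.1 = fromBlocks A 0 0 (A.det⁻¹ • 1) * fromBlocks 1 0 _ 1
      rw [hg1, hd, fromBlocks_multiply]
      refine Matrix.fromBlocks_inj.2 ⟨by simp, by simp, ?_, by simp⟩
      ext i j
      rw [Subsingleton.elim i 0]
      simp [← mul_assoc, smul_smul, inv_mul_cancel₀ hA, mul_inv_cancel₀ hA]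
    rw [this, map_mul, Module.End.mul_apply, hu, hL]
  have hP := isPretransitive_points (F := F) hm
  obtain ⟨v, hv0, hv⟩ := exists_orbit_fun ρ hP x₀ w hstab
  rcases card_le_of_orbit_fun ρ hP (sl_two_point hm) v hv with h | h
  · exact Or.inl fun g => by rw [← hv0, hv]; exact h _ _
  · right
    rw [← Nat.card_eq_fintype_card, card_points] at h
    omega

/-! ## The bound -/

/-- The exceptional cases. -/
def SLGood (m q : ℕ) : Prop :=
  (m = 2 → q ≠ 2 ∧ q ≠ 4) ∧ (m = 3 → q ≠ 2 ∧ q ≠ 3)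

omit [DecidableEq F] in
theorem bB_eq (m : ℕ) : ∀ q : ℕ, bB q (m + 1) = q * (1 + bB q m) := by
  intro q
  induction m with
  | zero => simp [bB]
  | succ m ih =>
    have e : bB q (m + 1 + 1) = q ^ (m + 1 + 1) + bB q (m + 1) := rfl
    have e' : bB q (m + 1) = q ^ (m + 1) + bB q m := rfl
    have h : q * (1 + bB q (m + 1)) = q + q * bB q (m + 1) := by ring
    rw [e, h]
    nth_rewrite 2 [e']
    rw [ih]
    ring

theorem pow_eq_bB (m q : ℕ) (hq : 1 ≤ q) : (q - 1) * (1 + bB q m) + 1 = q ^ (m + 1) := by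
  obtain ⟨p, rfl⟩ : ∃ p, q = p + 1 := ⟨q - 1, by omega⟩
  induction m with
  | zero => simp [bB]
  | succ m ih =>
    simp only [Nat.add_sub_cancel] at ih ⊢
    rw [bB_eq, pow_succ, ← ih]
    ring

theorem bB_succ_le_two_mul (m q : ℕ) (hq : 2 ≤ q) : bB q m + 2 ≤ 2 * q ^ m := by
  induction m with
  | zero => simp [bB]
  | succ m ih =>
    have : q ^ m * 2 ≤ q ^ m * q := Nat.mul_le_mul_left _ hq
    simp only [bB, pow_succ]
    omega

theorem no_gap_one {q e N d : ℤ} (hq : 2 ≤ q) (he : q ≤ e * (q - 1) + 1)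
    (hd : d = q * e - 1) (hN : N = (q * e + 1) * (q - 1) * e) (hbig : 2 * (q - 1) < d)
    {Q : ℤ} (hQ : ∃ k : ℕ, Q = q ^ k) (hdvd : d ∣ N * (d - Q)) : False := by
  have h1 : d ∣ (2 * (q - 1)) * (e * Q) := by
    obtain ⟨c, hc⟩ := hdvd
    refine ⟨(q - 1) * e * (d - Q) + 2 * (q - 1) * e - c, ?_⟩
    rw [hN] at hc
    rw [hd] at hc ⊢
    linear_combination -hc
  have hce : IsCoprime d e := ⟨-1, q, by rw [hd]; ring⟩
  have hcq : IsCoprime d q := ⟨-1, e, by rw [hd]; ring⟩
  obtain ⟨k, rfl⟩ := hQ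
  have := Int.le_of_dvd (by linarith) ((hce.mul_right hcq.pow_right).dvd_of_dvd_mul_right h1)
  linarith

theorem no_gap_two {q : ℕ} (hpp : IsPrimePow q) (h3 : 3 ≤ q) (h4 : q ≠ 4)
    (h : ((q : ℤ) + 2) * (q - 1) ∣
      (((q : ℤ) ^ 2 + q + 1) * ((q : ℤ) + 1) * (q - 1)) * (q - 2)) : False := by
  have h' : ((q : ℤ) + 2) ∣ ((q : ℤ) ^ 2 + q + 1) * ((q : ℤ) + 1) * (q - 2) := by
    refine Int.dvd_of_mul_dvd_mul_right (show (q : ℤ) - 1 ≠ 0 by omega) ?_
    refine h.trans (dvd_of_eq ?_)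
    ring
  have h12 : ((q : ℤ) + 2) ∣ 12 := by
    obtain ⟨c, hc⟩ := h'
    exact ⟨c - ((q : ℤ) ^ 3 - 2 * q ^ 2 + 2 * q - 7), by linear_combination hc⟩
  have h12' : q + 2 ∣ 12 := by exact_mod_cast h12
  have hle := Nat.le_of_dvd (by norm_num) h12'
  have hq10 : q = 10 := by
    have hq' : q ≤ 10 := by omega
    interval_cases q <;> first | rfl | (exfalso; revert h12'; decide) | omega
  subst hq10
  obtain ⟨p, k, hp, hk, hpk⟩ := (isPrimePow_nat_iff 10).1 hpp
  have h2 : 2 ∣ p := Nat.prime_two.dvd_of_dvd_pow (hpk ▸ (by norm_num : 2 ∣ 10))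
  have h5 : 5 ∣ p := (by norm_num : Nat.Prime 5).dvd_of_dvd_pow (hpk ▸ (by norm_num : 5 ∣ 10))
  rw [Nat.prime_dvd_prime_iff_eq Nat.prime_two hp] at h2
  subst h2
  norm_num at h5

theorem eq_toGL_of_two (h2 : Fintype.card F = 2) {ι : Type} [Fintype ι] [DecidableEq ι]
    (A : GL ι F) : ∃ g : SpecialLinearGroup ι F, Matrix.SpecialLinearGroup.toGL g = A := by
  refine ⟨⟨A.1, ?_⟩, Units.ext rfl⟩
  by_contra h1
  have : ({0, 1, A.1.det} : Finset F).card ≤ 2 := h2 ▸ Finset.card_le_univ _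
  rw [Finset.card_eq_three.2 ⟨0, 1, A.1.det, zero_ne_one,
    (Matrix.GeneralLinearGroup.det A).ne_zero.symm, Ne.symm h1, rfl⟩] at this
  omega

theorem toGL_levSL_of_two (h2 : Fintype.card F = 2) (A : GL (Fin m) F) :
    Matrix.SpecialLinearGroup.toGL (levSL A) = levGL A := by
  obtain ⟨g, hg⟩ := eq_toGL_of_two h2 A
  refine Units.ext ?_
  show fromBlocks A.1 0 0 (A.1.det⁻¹ • 1) = fromBlocks A.1 0 0 1
  rw [show A.1.det = 1 by rw [← hg]; exact g.2, inv_one, one_smul]

omit [DecidableEq F] in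
theorem no_two_dim_sl_three (h2 : Fintype.card F = 2) {W : Type uw} [AddCommGroup W]
    [Module ℂ W] [FiniteDimensional ℂ W] (hW : Module.finrank ℂ W ≤ 2)
    (σ : Representation ℂ (GL (Fin 3) F) W) : ∀ A, σ A = 1 := by
  classical
  obtain ⟨ψ, hψ⟩ := AddChar.exists_apply_ne_zero.2 (one_ne_zero : (1 : F) ≠ 0)
  have hψ : ψ ≠ 1 := fun h => hψ (by rw [h]; rfl)
  let e : Fin 2 ⊕ Fin 1 ≃ Fin 3 := finSumFinEquiv
  let φ : Representation ℂ (SpecialLinearGroup (Fin 2 ⊕ Fin 1) F) W :=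
    σ.comp ((Matrix.SpecialLinearGroup.toGL).comp (slCongr e).toMonoidHom)
  have hu : ∀ x, φ (uSL x) = 1 := fun x => by
    by_contra hx
    have he : (Pi.single 0 1 : Fin 2 → F) ≠ 0 := by simp
    have hpos := (slRad F 2).rk_pos φ ψ hψ (trans_slRad (by omega)) (x := x) he hx
    have := (slRad F 2).finrank_eq φ ψ hψ (trans_slRad (by omega)) he
    rw [h2] at this
    norm_num at this
    omega
  intro A
  obtain ⟨g, rfl⟩ := eq_toGL_of_two h2 A
  have := eq_one_of_uSL (by omega) φ hu ((slCongr e).symm g)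
  simpa [φ] using this

/-- The bound for irreducible representations, assuming it one step down. -/
theorem sl_bound_irr (k : ℕ) (hgood : SLGood (k + 2) (Fintype.card F))
    (ih : 1 ≤ k → SLGood (k + 1) (Fintype.card F) →
      ∀ (W : Type uw) [AddCommGroup W] [Module ℂ W] [FiniteDimensional ℂ W]
        (ρ : Representation ℂ (SpecialLinearGroup (Fin (k + 1) ⊕ Fin 1) F) W),
        (∃ g, ρ g ≠ 1) → bB (Fintype.card F) (k + 1) ≤ Module.finrank ℂ W)
    (W : Type uw) [AddCommGroup W] [Module ℂ W] [FiniteDimensional ℂ W]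
    (ρ : Representation ℂ (SpecialLinearGroup (Fin (k + 2) ⊕ Fin 1) F) W)
    (hirr : ρ.IsIrreducible) (hρ : ∃ g, ρ g ≠ 1) :
    bB (Fintype.card F) (k + 2) ≤ Module.finrank ℂ W := by
  classical
  obtain ⟨ψ, hψ⟩ := AddChar.exists_apply_ne_zero.2 (one_ne_zero : (1 : F) ≠ 0)
  have hψ : ψ ≠ 1 := fun h => hψ (by rw [h]; rfl)
  set q := Fintype.card F with hqdef
  have hq2 : 2 ≤ q := Fintype.one_lt_card
  set R := slRad F (k + 2) with hR
  have hT : R.Trans := trans_slRad (by omega)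
  let e₀ : Fin (k + 2) → F := Pi.single 0 1
  have he : e₀ ≠ 0 := by simp [e₀]
  obtain ⟨x, hx⟩ : ∃ x, ρ (uSL x) ≠ 1 := by
    by_contra! h
    obtain ⟨g, hg⟩ := hρ
    exact hg (eq_one_of_uSL (by omega) ρ h g)
  have hμ := R.rk_pos ρ ψ hψ hT (x := x) he hx
  have hdim := R.finrank_eq ρ ψ hψ hT he
  rw [← hqdef] at hdim
  set μ := R.rk ρ ψ e₀
  set w := R.rk ρ ψ 0 with hw
  have h2q := bB_succ_le_two_mul (k + 2) q hq2
  by_cases hμ2 : 2 ≤ μ
  · have : (q ^ (k + 2) - 1) * 2 ≤ (q ^ (k + 2) - 1) * μ := Nat.mul_le_mul_left _ hμ2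
    omega
  have h1 : μ = 1 := by omega
  rw [h1, mul_one] at hdim
  have hk2 : k = 0 → q ≠ 2 ∧ q ≠ 4 := fun h => hgood.1 (by omega)
  have hk3 : k = 1 → q ≠ 2 ∧ q ≠ 3 := fun h => hgood.2 (by omega)
  have hl : (Sum.inl 0 : Fin (k + 2) ⊕ Fin 1) ≠ Sum.inl 1 := by simp
  have hs := step (R := R) goodTwist_slRad hT ρ hψ _
    (stabComm_slRad k hk2 fun h => by have := hk3 h; omega) (x := e₀) he ?_ (e := e₀) he h1
  swap
  · show IsConj (uSL _) (levSL _)
    rw [uSL_single, levSL_tvGL _ _ hl]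
    exact isConj_tv_sl _ (e := Sum.inl 1) (by simp) (by simp) hl
  rw [R.finrank_fixedSpace ρ ψ, ← hw] at hs
  have hW0 : Module.finrank ℂ (R.fixedSpace ρ ψ) = w := rfl
  have hwpos : 1 ≤ w := by
    by_contra hc
    have h0 : w = 0 := by omega
    have : Subsingleton (R.fixedSpace ρ ψ) := Module.finrank_zero_iff.1 (hW0.trans h0)
    rw [show (R.fixedRep ρ ψ) (tvGL Fin.zero_ne_one 1) = 0 from LinearMap.ext fun v => Subsingleton.elim _ _,
      map_zero, h0, Nat.cast_zero, zero_sub, eq_comm, neg_eq_zero] at hs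
    exact pow_ne_zero _ (Nat.cast_ne_zero.2 (by omega)) hs
  -- the divisibility
  have hne : (Sum.inr 0 : Fin (k + 2) ⊕ Fin 1) ≠ Sum.inl 0 := Sum.inr_ne_inl
  set t := SpecialLinearGroup.transvection hne (1 : F)
  set N := (Subgroup.centralizer
    ({t} : Set (SpecialLinearGroup (Fin (k + 2) ⊕ Fin 1) F))).index
  have hN : N * (q - 1) = (q ^ (k + 3) - 1) * (q ^ (k + 2) - 1) := by
    have := card_class_tv (F := F) hne (c := Sum.inl 1) (by simp) (by simp)
    simpa [Fintype.card_sum] using this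
  have hdvd : Module.finrank ℂ W ∣ N * (w - 1) := by
    haveI := hirr
    letI : Fintype (SpecialLinearGroup (Fin (k + 2) ⊕ Fin 1) F) := Fintype.ofFinite _
    refine Char.nat_dvd_of_isIntegral_div (CharApp.finrank_pos_of_irr ρ).ne' ?_
    have hi := Char.isIntegral_classSize_mul_div ρ t
    have hc : ρ.character t = ((w - 1 : ℕ) : ℂ) := by
      have := R.trace_u ρ ψ hψ hT he (x := e₀) he
      rw [show R.u e₀ = t from uSL_single 0 1] at this
      rw [Nat.cast_sub hwpos]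
      refine this.trans ?_
      rw [← hw, show R.rk ρ ψ e₀ = 1 from h1]
    rw [hc] at hi
    rwa [Nat.cast_mul]
  by_contra hlt
  push Not at hlt
  have hb1 := bB_eq (k + 1) q
  have hpe := pow_eq_bB (k + 1) q (by omega)
  -- the generic contradiction at one below the bound
  have hgap : w + 1 ≤ bB q (k + 1) + 1 → w ≠ bB q (k + 1) := by
    intro _ hwe
    set E : ℕ := 1 + bB q (k + 1)
    have hp3 : q ^ (k + 3) = q ^ (k + 2) * q := pow_succ q (k + 2)
    have hpe' : (((q : ℤ) - 1) * E + 1) = (q : ℤ) ^ (k + 2) := by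
      have : (((q - 1) * E + 1 : ℕ) : ℤ) = ((q ^ (k + 2) : ℕ) : ℤ) := by rw [hpe]
      push_cast [Nat.cast_sub (show 1 ≤ q by omega)] at this
      exact this
    have hqm : 1 ≤ q ^ (k + 2) := Nat.one_le_pow _ _ (by omega)
    have hqm3 : 1 ≤ q ^ (k + 3) := Nat.one_le_pow _ _ (by omega)
    have hd : ((Module.finrank ℂ W : ℕ) : ℤ) = (q : ℤ) * E - 1 := by
      rw [hdim, hwe, Nat.cast_add, Nat.cast_sub hqm]
      push_cast [E] at hpe' ⊢
      linear_combination -hpe'
    have hN' : (N : ℤ) = ((q : ℤ) * E + 1) * ((q : ℤ) - 1) * E := by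
      refine mul_right_cancel₀ (show (q : ℤ) - 1 ≠ 0 by omega) ?_
      have : ((N * (q - 1) : ℕ) : ℤ) = (((q ^ (k + 3) - 1) * (q ^ (k + 2) - 1) : ℕ) : ℤ) := by rw [hN]
      push_cast [Nat.cast_sub (show 1 ≤ q by omega), Nat.cast_sub hqm, Nat.cast_sub hqm3] at this
      rw [this, pow_succ (q : ℤ) (k + 2), ← hpe']
      ring
    refine no_gap_one (q := q) (e := E) (N := N) (d := Module.finrank ℂ W) (by omega)
      ?_ hd hN' ?_ (Q := (q : ℤ) ^ (k + 2)) ⟨k + 2, rfl⟩ ?_
    · have : (q : ℤ) ≤ (q : ℤ) ^ (k + 2) := le_self_pow₀ (by omega) (by omega)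
      linarith [hpe']
    · have h4 : q * 2 ≤ q ^ (k + 2) :=
        calc q * 2 ≤ q * q := Nat.mul_le_mul_left _ hq2
          _ = q ^ 2 := (sq q).symm
          _ ≤ _ := Nat.pow_le_pow_right (by omega) (by omega)
      omega
    · have : ((Module.finrank ℂ W : ℕ) : ℤ) ∣ ((N * (w - 1) : ℕ) : ℤ) :=
        Int.natCast_dvd_natCast.2 hdvd
      refine this.trans (dvd_of_eq ?_)
      push_cast [Nat.cast_sub hwpos]
      rw [hdim, Nat.cast_add, Nat.cast_sub hqm]
      push_cast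
      ring
  have hbb : bB q (k + 2) = q ^ (k + 2) + bB q (k + 1) := rfl
  -- lower bounds for the fixed space
  let e : Fin (k + 1) ⊕ Fin 1 ≃ Fin (k + 2) := finSumFinEquiv
  let σ₁ : Representation ℂ (GL (Fin (k + 1) ⊕ Fin 1) F) (R.fixedSpace ρ ψ) := (R.fixedRep ρ ψ).comp (glCongr e).toMonoidHom
  have hab' : e.symm 0 ≠ e.symm 1 := fun h => Fin.zero_ne_one (e.symm.injective h)
  have hσ₁ : LinearMap.trace ℂ (R.fixedSpace ρ ψ) (σ₁ (tvGL hab' 1)) =
      (Module.finrank ℂ (R.fixedSpace ρ ψ) : ℂ) - (Fintype.card F : ℂ) ^ (k + 1) := by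
    show LinearMap.trace ℂ _ ((R.fixedRep ρ ψ) (glCongr e (tvGL hab' 1))) = _
    rw [glCongr_tvGL e hab' Fin.zero_ne_one (e.apply_symm_apply _) (e.apply_symm_apply _), hs,
      hW0]
    rfl
  rcases Nat.eq_zero_or_pos k with hk0 | hk0
  · subst hk0
    obtain ⟨hq22, hq4⟩ := hk2 rfl
    have hchain := gl_chain (by omega) 0 (R.fixedSpace ρ ψ) σ₁ hab' hσ₁
    rw [hW0, ← hqdef] at hchain
    simp only [cB, bB, pow_one, add_zero, zero_add, Nat.reduceAdd] at hchain hbb hgap hdim hlt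
    have hwq : w = q - 1 := by
      by_contra hne'
      exact hgap (by omega) (by omega)
    refine no_gap_two (q := q) ?_ (by omega) hq4 ?_
    · exact FiniteField.isPrimePow_card F
    · have hdi : ((Module.finrank ℂ W : ℕ) : ℤ) ∣ ((N * (w - 1) : ℕ) : ℤ) :=
        Int.natCast_dvd_natCast.2 hdvd
      have hqm : 1 ≤ q ^ 2 := Nat.one_le_pow _ _ (by omega)
      have hqm3 : 1 ≤ q ^ 3 := Nat.one_le_pow _ _ (by omega)
      have hN' : (N : ℤ) = ((q : ℤ) ^ 2 + q + 1) * ((q : ℤ) + 1) * ((q : ℤ) - 1) := by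
        refine mul_right_cancel₀ (show (q : ℤ) - 1 ≠ 0 by omega) ?_
        have : ((N * (q - 1) : ℕ) : ℤ) = (((q ^ 3 - 1) * (q ^ 2 - 1) : ℕ) : ℤ) := by
          rw [hN]
        push_cast [Nat.cast_sub (show 1 ≤ q by omega), Nat.cast_sub hqm, Nat.cast_sub hqm3] at this
        rw [this]
        ring
      rw [hwq] at hdi hdim
      rw [hdim] at hdi
      push_cast [Nat.cast_sub hqm, Nat.cast_sub (show 1 ≤ q by omega),
        Nat.cast_sub (show 1 ≤ q - 1 by omega), hN'] at hdi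
      convert hdi using 1 <;> ring
  by_cases hgood' : SLGood (k + 1) q
  · let φ : Representation ℂ (SpecialLinearGroup (Fin (k + 1) ⊕ Fin 1) F) (R.fixedSpace ρ ψ) :=
      σ₁.comp Matrix.SpecialLinearGroup.toGL
    have hnt : ∃ g, φ g ≠ 1 := ⟨SpecialLinearGroup.transvection hab' 1, fun h => by
      have h' : σ₁ (tvGL hab' 1) = 1 := h
      rw [h', LinearMap.trace_one, eq_sub_iff_add_eq, add_eq_left] at hσ₁
      exact pow_ne_zero _ (Nat.cast_ne_zero.2 (by omega)) hσ₁⟩
    have := ih hk0 hgood' (R.fixedSpace ρ ψ) φ hnt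
    rw [hW0] at this
    exact hgap (by omega) (by omega)
  -- the three special cases
  have hcases : (k = 1 ∧ q = 4) ∨ (k = 2 ∧ (q = 2 ∨ q = 3)) := by
    simp only [SLGood, not_and_or, Classical.not_imp] at hgood'
    have := hk3
    omega
  rcases hcases with ⟨rfl, hq4⟩ | ⟨rfl, hq | hq⟩
  · have hchain := gl_chain (by omega) 1 (R.fixedSpace ρ ψ) σ₁ hab' hσ₁
    rw [hW0, ← hqdef, hq4] at hchain
    rw [hq4] at hdim hN hbb
    norm_num [cB, bB] at hchain hdim hN hbb
    rw [hdim] at hlt hdvd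
    rw [hq4] at hlt
    norm_num [bB] at hlt
    have hN2 : N = 5355 := by omega
    rw [hN2] at hdvd
    have : w ≤ 20 := by omega
    interval_cases w <;> norm_num at hdvd
  · -- q = 2
    obtain ⟨hw1, hwd⟩ := gl_weights hψ σ₁ hab' hσ₁
    rw [hW0, ← hqdef, hq] at hwd
    norm_num at hwd
    rw [hq] at hdim hN
    norm_num at hdim hN
    rw [hdim] at hdvd hlt
    rw [hq] at hlt
    norm_num [bB] at hlt
    rw [hN] at hdvd
    have : w ≤ 14 := by omega
    have : 7 ≤ w := by omega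
    have hw9 : w = 9 := by interval_cases w <;> first | rfl | (norm_num at hdvd)
    set R' := glRad F 3
    have h2 : Module.finrank ℂ (R'.fixedSpace σ₁ ψ) ≤ 2 := by
      rw [R'.finrank_fixedSpace σ₁ ψ]; omega
    have htriv := no_two_dim_sl_three (hqdef ▸ hq) h2 (R'.fixedRep σ₁ ψ)
    have : Nontrivial (R'.fixedSpace σ₁ ψ) :=
      Module.finrank_pos_iff (R := ℂ).1 (by rw [R'.finrank_fixedSpace σ₁ ψ]; omega)
    obtain ⟨⟨v, hv⟩, hv0⟩ := exists_ne (0 : R'.fixedSpace σ₁ ψ)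
    have hv0' : v ≠ 0 := fun h => hv0 (Subtype.ext h)
    rcases fixed_dichotomy (by omega) (σ₁.comp Matrix.SpecialLinearGroup.toGL) v
        (fun x => R'.u_fixedSpace σ₁ ψ x hv) (fun A => by
          show σ₁ (Matrix.SpecialLinearGroup.toGL (levSL A)) v = v
          rw [toGL_levSL_of_two (hqdef ▸ hq)]
          exact congrArg Subtype.val (LinearMap.congr_fun (htriv A) ⟨v, hv⟩)) with hfix | hbig
    · have hall : ∀ A, (R.fixedRep ρ ψ) A v = v := fun A => by
        obtain ⟨g, hg⟩ := eq_toGL_of_two (hqdef ▸ hq) ((glCongr e).symm A)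
        have := hfix g
        rwa [MonoidHom.comp_apply, hg,
          show σ₁ ((glCongr e).symm A) = (R.fixedRep ρ ψ) A by simp [σ₁]] at this
      rcases fixed_dichotomy (by omega) ρ v.1 (fun x => R.u_fixedSpace ρ ψ x v.2)
          (fun A => congrArg Subtype.val (hall A)) with hfx | hbg
      · haveI := hirr
        rcases CharApp.eq_bot_or_top_of_invariant ρ (Submodule.span ℂ {(v : W)})
            (fun g z hz => by
              obtain ⟨c, rfl⟩ := Submodule.mem_span_singleton.1 hz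
              rw [map_smul, hfx]
              exact Submodule.smul_mem _ _ (Submodule.mem_span_singleton_self _)) with hb | hb
        · rw [Submodule.span_singleton_eq_bot] at hb
          exact hv0' (Subtype.ext hb)
        · have := finrank_span_singleton (K := ℂ) (fun h => hv0' (Subtype.ext h) : (v : W) ≠ 0)
          rw [hb, finrank_top, hdim] at this
          omega
      · rw [hdim, ← hqdef, hq] at hbg
        norm_num [bB] at hbg
        omega
    · rw [hW0, hw9, ← hqdef, hq] at hbig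
      norm_num [bB] at hbig
  · have hchain := gl_chain (by omega) 2 (R.fixedSpace ρ ψ) σ₁ hab' hσ₁
    rw [hW0, ← hqdef, hq] at hchain
    rw [hq] at hdim hN
    norm_num [cB] at hchain hdim hN
    rw [hdim] at hlt hdvd
    rw [hq] at hlt
    norm_num [bB] at hlt
    have hN2 : N = 9680 := by omega
    rw [hN2] at hdvd
    have : w ≤ 39 := by omega
    interval_cases w <;> norm_num at hdvd

/-- A non-trivial representation of `SL_{m+1}(q)` has degree at least `q^m + ... + q`. -/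
theorem sl_bound : ∀ (k : ℕ), SLGood (k + 2) (Fintype.card F) →
    ∀ (W : Type uw) [AddCommGroup W] [Module ℂ W] [FiniteDimensional ℂ W]
      (ρ : Representation ℂ (SpecialLinearGroup (Fin (k + 2) ⊕ Fin 1) F) W),
      (∃ g, ρ g ≠ 1) → bB (Fintype.card F) (k + 2) ≤ Module.finrank ℂ W := by
  intro k
  induction k with
  | zero =>
    intro hgood
    refine ge_of_irreducible fun W _ _ _ ρ hirr hρ => ?_
    exact sl_bound_irr 0 hgood (fun h => absurd h (by omega)) W ρ hirr hρ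
  | succ k ih =>
    intro hgood
    refine ge_of_irreducible fun W _ _ _ ρ hirr hρ => ?_
    exact sl_bound_irr (k + 1) hgood (fun _ hg => ih hg) W ρ hirr hρ

end Cfsg.Agent.SLDeg
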