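import Cfsg.Agent.Lib.SLDeg.Main

/-!
# The point representation of `SL_{m+1}`
* `pointRep` : sum-zero functions on points; `pointRep_isIrreducible`, `finrank_sumZero`
-/

set_option autoImplicit false

open scoped LinearAlgebra.Projectivization

namespace Cfsg.Agent.SLDeg

section perm

variable (G : Type*) [Group G] (X : Type*) [Fintype X] [MulAction G X]

/-- Sum-zero functions. -/
def sumZero : Submodule ℂ (X → ℂ) where
  carrier := {c | ∑ x, c x = 0}
  zero_mem' := by simp
  add_mem' {a b} ha hb := by
    simp only [Set.mem_setOf_eq, Pi.add_apply, Finset.sum_add_distrib] at ha hb ⊢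
    rw [ha, hb, add_zero]
  smul_mem' r c hc := by
    simp only [Set.mem_setOf_eq, Pi.smul_apply, smul_eq_mul, ← Finset.mul_sum] at hc ⊢
    rw [hc, mul_zero]

/-- Functions on `X`. -/
def funRep : Representation ℂ G (X → ℂ) where
  toFun g := LinearMap.funLeft ℂ ℂ (fun x => g⁻¹ • x)
  map_one' := by
    ext c x
    simp
  map_mul' g h := by
    ext c x
    simp [mul_smul]

theorem funRep_apply (g : G) (c : X → ℂ) (x : X) : funRep G X g c x = c (g⁻¹ • x) := rfl

theorem funRep_mem (g : G) {c : X → ℂ} (hc : c ∈ sumZero X) : funRep G X g c ∈ sumZero X :=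
  (Fintype.sum_equiv (MulAction.toPerm g⁻¹) _ c fun _ => rfl).trans hc

/-- The representation on sum-zero functions. -/
def pointRep : Representation ℂ G (sumZero X) where
  toFun g := (funRep G X g).restrict fun _ hc => funRep_mem G X g hc
  map_one' := LinearMap.ext fun v => Subtype.ext (by simp)
  map_mul' g h := LinearMap.ext fun v => Subtype.ext (by simp)

theorem finrank_sumZero [Nonempty X] :
    Module.finrank ℂ (sumZero X) + 1 = Fintype.card X := by
  let T : (X → ℂ) →ₗ[ℂ] ℂ :=
    { toFun := fun c => ∑ x, c x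
      map_add' := fun a b => by simp [Finset.sum_add_distrib]
      map_smul' := fun r c => by simp [Finset.mul_sum] }
  have hT : Function.Surjective T := fun z => by
    classical
    exact ⟨Pi.single (Classical.arbitrary X) z, by simp [T]⟩
  have := T.finrank_range_add_finrank_ker
  rw [LinearMap.range_eq_top.2 hT, finrank_top, Module.finrank_self, Module.finrank_pi] at this
  rw [show sumZero X = LinearMap.ker T from rfl]
  omega

theorem pointRep_isIrreducible [Fintype G] (hP : MulAction.IsPretransitive G X)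
    (h2 : ∀ a y z : X, y ≠ a → z ≠ a → ∃ g : G, g • a = a ∧ g • y = z)
    (hX : 2 ≤ Fintype.card X) : (pointRep G X).IsIrreducible := by
  classical
  have : Nonempty X := Fintype.card_pos_iff.1 (by omega)
  have : Nontrivial (sumZero X) := by
    refine Module.finrank_pos_iff (R := ℂ).1 ?_
    have := finrank_sumZero (X := X)
    omega
  refine CharApp.isIrreducible_of_forall_invariant _ fun Z hZ => or_iff_not_imp_left.2 fun h0 => ?_
  obtain ⟨c, hc, hc0⟩ := Submodule.exists_mem_ne_zero_of_ne_bot h0
  let Z' : Submodule ℂ (X → ℂ) := Z.map (sumZero X).subtype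
  have hZ' : ∀ g : G, ∀ d ∈ Z', funRep G X g d ∈ Z' := by
    rintro g _ ⟨d, hd, rfl⟩
    exact ⟨_, hZ g d hd, rfl⟩
  let τ : Representation ℂ G ((X → ℂ) ⧸ Z') :=
    { toFun := fun g => Z'.mapQ Z' (funRep G X g) fun d hd => hZ' g d hd
      map_one' := Submodule.linearMap_qext _ (LinearMap.ext fun v => by simp)
      map_mul' := fun x y => Submodule.linearMap_qext _ (LinearMap.ext fun v => by simp) }
  let v : X → (X → ℂ) ⧸ Z' := fun x => Z'.mkQ (Pi.single x 1)
  have hv : ∀ g x, τ g (v x) = v (g • x) := fun g x => by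
    show Z'.mkQ (funRep G X g (Pi.single x 1)) = _
    congr 1
    funext y
    rw [funRep_apply, Pi.single_apply, Pi.single_apply]
    simp [inv_smul_eq_iff]
  have hrel : ∑ x, c.1 x • v x = 0 := by
    have hsum : ∑ x, c.1 x • (Pi.single x (1 : ℂ) : X → ℂ) = c.1 := by
      funext y
      simp [Finset.sum_apply, Pi.single_apply]
    rw [show ∑ x, c.1 x • v x = Z'.mkQ (∑ x, c.1 x • Pi.single x 1) by
      simp only [v, map_sum, map_smul], hsum]
    exact (Submodule.Quotient.mk_eq_zero _).2 ⟨c, hc, rfl⟩
  have hall := eq_of_relation τ hP h2 v hv c.1 (fun h => hc0 (Subtype.ext h)) c.2 hrel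
  obtain ⟨a⟩ := (inferInstance : Nonempty X)
  refine (Submodule.eq_top_iff').2 fun d => ?_
  have hd : d.1 ∈ Z' := by
    rw [← Submodule.Quotient.mk_eq_zero, ← Submodule.mkQ_apply]
    have hsum : d.1 = ∑ x, d.1 x • (Pi.single x (1 : ℂ) : X → ℂ) := by
      funext y
      simp [Finset.sum_apply, Pi.single_apply]
    rw [hsum, map_sum]
    simp only [map_smul]
    rw [Finset.sum_congr rfl (g := fun x => d.1 x • v a) fun x _ => by rw [← hall x a],
      ← Finset.sum_smul, show ∑ x, d.1 x = 0 from d.2, zero_smul]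
  obtain ⟨d', hd', he⟩ := hd
  rwa [← Subtype.ext he]

end perm

end Cfsg.Agent.SLDeg
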