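import Cfsg.Agent.EqLemmas
import Mathlib

/-!
# Weights of an abelian radical `F^m` normalised by `GL_m`
* `Radical`, `proj`, `rk`, `fixedRep`, `finrank_eq`, `trace_u`, `mu_eq_one`, `trace_fixedRep`
-/

set_option autoImplicit false

open Matrix

namespace Cfsg.Agent.SLDeg

/-- An abelian subgroup parametrised by `F^m` with an action of `GL_m`. -/
structure Radical (m : ℕ) (F : Type*) [Field F] (G : Type*) [Group G] where
  /-- the radical -/
  u : (Fin m → F) → G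
  u_add : ∀ x y, u (x + y) = u x * u y
  /-- the Levi part -/
  L : GL (Fin m) F →* G
  /-- the twist -/
  tw : GL (Fin m) F → F
  tw_ne : ∀ A, tw A ≠ 0
  move : ∀ A x, u x * L A = L A * u (tw A • (A.1ᵀ *ᵥ x))

namespace Radical

variable {m : ℕ} {F : Type*} [Field F] {G : Type*} [Group G] (R : Radical m F G)

/-- The action on weights. -/
def act (A : GL (Fin m) F) (s : Fin m → F) : Fin m → F := R.tw A • (A.1 *ᵥ s)

theorem act_dot (A : GL (Fin m) F) (s x : Fin m → F) :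
    R.act A s ⬝ᵥ x = s ⬝ᵥ (R.tw A • (A.1ᵀ *ᵥ x)) := by
  rw [act, smul_dotProduct, dotProduct_smul, Matrix.dotProduct_mulVec s, Matrix.vecMul_transpose]

theorem act_zero (A : GL (Fin m) F) : R.act A 0 = 0 := by simp [act]

theorem u_zero : R.u 0 = 1 := by
  have := R.u_add 0 0
  rw [add_zero] at this
  exact left_eq_mul.1 this

theorem bijective_move (A : GL (Fin m) F) :
    Function.Bijective fun x : Fin m → F => R.tw A • (A.1ᵀ *ᵥ x) := by
  refine Function.bijective_iff_has_inverse.2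
    ⟨fun y => (A⁻¹).1ᵀ *ᵥ ((R.tw A)⁻¹ • y), fun x => ?_, fun y => ?_⟩
  · simp only [inv_smul_smul₀ (R.tw_ne A), Matrix.mulVec_mulVec, ← Matrix.transpose_mul,
      Units.mul_inv, Matrix.transpose_one, Matrix.one_mulVec]
  · simp only [Matrix.mulVec_mulVec, ← Matrix.transpose_mul, Units.inv_mul, Matrix.transpose_one,
      Matrix.one_mulVec, smul_inv_smul₀ (R.tw_ne A)]

/-- The character `x ↦ ψ (s · x)`. -/
def chi (ψ : AddChar F ℂ) (s : Fin m → F) : AddChar (Fin m → F) ℂ :=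
  ψ.compAddMonoidHom (AddMonoidHom.mk' (fun x => s ⬝ᵥ x) (dotProduct_add _))

theorem chi_apply (ψ : AddChar F ℂ) (s x : Fin m → F) : chi ψ s x = ψ (s ⬝ᵥ x) := rfl

theorem chi_ne_one {ψ : AddChar F ℂ} (hψ : ψ ≠ 1) {s : Fin m → F} (hs : s ≠ 0) :
    chi ψ s ≠ 1 := by
  obtain ⟨l, hl⟩ := Function.ne_iff.1 hs
  obtain ⟨t, ht⟩ := AddChar.ne_one_iff.1 hψ
  refine AddChar.ne_one_iff.2 ⟨Pi.single l (t / s l), ?_⟩
  rwa [chi_apply, dotProduct_single, mul_div_cancel₀ _ (by exact hl)]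

theorem sum_chi [Fintype F] [DecidableEq F] {ψ : AddChar F ℂ} (hψ : ψ ≠ 1) (s : Fin m → F) :
    ∑ x, ψ (s ⬝ᵥ x) = if s = 0 then (Fintype.card F : ℂ) ^ m else 0 := by
  split_ifs with h
  · simp [h]
  · simpa [chi_apply] using AddChar.sum_eq_zero_of_ne_one (chi_ne_one hψ h)

variable {W : Type*} [AddCommGroup W] [Module ℂ W] (ρ : Representation ℂ G W)
  [Fintype F] (ψ : AddChar F ℂ)

/-- The projection on the weight space of `s`. -/
noncomputable def proj (s : Fin m → F) : Module.End ℂ W :=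
  ((Fintype.card F : ℂ) ^ m)⁻¹ • ∑ x, ψ (-(s ⬝ᵥ x)) • ρ (R.u x)

theorem u_mul_proj (s x : Fin m → F) :
    ρ (R.u x) * R.proj ρ ψ s = ψ (s ⬝ᵥ x) • R.proj ρ ψ s := by
  simp only [proj, mul_smul_comm, Finset.mul_sum, Finset.smul_sum, smul_smul, ← map_mul,
    ← R.u_add]
  refine Fintype.sum_equiv (Equiv.addLeft x) _ _ fun y => ?_
  simp only [Equiv.coe_addLeft, dotProduct_add]
  rw [mul_left_comm, ← AddChar.map_add_eq_mul]
  congr 3
  abel

theorem proj_apply_weight [DecidableEq F] (hψ : ψ ≠ 1) {s : Fin m → F} {v : W}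
    (hv : ∀ x, ρ (R.u x) v = ψ (s ⬝ᵥ x) • v) (t : Fin m → F) :
    R.proj ρ ψ t v = if t = s then v else 0 := by
  simp only [proj, LinearMap.smul_apply, LinearMap.sum_apply, hv, smul_smul, ← Finset.sum_smul,
    ← AddChar.map_add_eq_mul]
  simp_rw [neg_add_eq_sub, ← sub_dotProduct, sum_chi hψ, sub_eq_zero, eq_comm (a := t)]
  split_ifs with h
  · rw [inv_mul_cancel₀ (pow_ne_zero _ (Nat.cast_ne_zero.2 Fintype.card_ne_zero)), one_smul]
  · rw [mul_zero, zero_smul]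

theorem u_proj_apply (s x : Fin m → F) (v : W) :
    ρ (R.u x) (R.proj ρ ψ s v) = ψ (s ⬝ᵥ x) • R.proj ρ ψ s v :=
  LinearMap.congr_fun (R.u_mul_proj ρ ψ s x) v

theorem proj_mul_proj [DecidableEq F] (hψ : ψ ≠ 1) (t s : Fin m → F) :
    R.proj ρ ψ t * R.proj ρ ψ s = if t = s then R.proj ρ ψ s else 0 :=
  LinearMap.ext fun v => by
    rw [Module.End.mul_apply, R.proj_apply_weight ρ ψ hψ (fun x => R.u_proj_apply ρ ψ s x v)]
    split_ifs <;> rfl

theorem sum_proj [DecidableEq F] (hψ : ψ ≠ 1) : ∑ s, R.proj ρ ψ s = 1 := by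
  simp only [proj, ← Finset.smul_sum]
  rw [Finset.sum_comm]
  simp_rw [← Finset.sum_smul, ← neg_dotProduct, dotProduct_comm (-_ : Fin m → F),
    dotProduct_neg, ← neg_dotProduct, sum_chi hψ, neg_eq_zero, ite_smul, zero_smul]
  rw [Finset.sum_ite_eq' Finset.univ (0 : Fin m → F), if_pos (Finset.mem_univ _), R.u_zero, map_one,
    smul_smul, inv_mul_cancel₀ (pow_ne_zero _ (Nat.cast_ne_zero.2 Fintype.card_ne_zero)), one_smul]

theorem L_mul_proj (A : GL (Fin m) F) (s : Fin m → F) :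
    ρ (R.L A) * R.proj ρ ψ s = R.proj ρ ψ (R.act A s) * ρ (R.L A) := by
  simp only [proj, mul_smul_comm, smul_mul_assoc, Finset.mul_sum, Finset.sum_mul, ← map_mul]
  congr 1
  refine (Fintype.sum_bijective _ (R.bijective_move A) _ _ fun x => ?_).symm
  rw [R.move, act_dot]

theorem isIdempotent_proj [DecidableEq F] (hψ : ψ ≠ 1) (s : Fin m → F) :
    IsIdempotentElem (R.proj ρ ψ s) := by
  rw [IsIdempotentElem, R.proj_mul_proj ρ ψ hψ, if_pos rfl]

/-- The dimension of a weight space. -/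
noncomputable def rk (s : Fin m → F) : ℕ := Module.finrank ℂ (LinearMap.range (R.proj ρ ψ s))

theorem trace_proj [DecidableEq F] [FiniteDimensional ℂ W] (hψ : ψ ≠ 1) (s : Fin m → F) :
    LinearMap.trace ℂ W (R.proj ρ ψ s) = R.rk ρ ψ s :=
  LinearMap.IsProj.trace ⟨fun v => LinearMap.mem_range_self _ v, fun v hv => by
    obtain ⟨y, rfl⟩ := hv
    exact LinearMap.congr_fun (R.isIdempotent_proj ρ ψ hψ s) y⟩

theorem rk_act [DecidableEq F] [FiniteDimensional ℂ W] (hψ : ψ ≠ 1) (A : GL (Fin m) F)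
    (s : Fin m → F) : R.rk ρ ψ (R.act A s) = R.rk ρ ψ s := by
  have h : (R.rk ρ ψ (R.act A s) : ℂ) = R.rk ρ ψ s := by
    rw [← R.trace_proj ρ ψ hψ, ← R.trace_proj ρ ψ hψ]
    calc LinearMap.trace ℂ W (R.proj ρ ψ (R.act A s))
        = LinearMap.trace ℂ W (R.proj ρ ψ (R.act A s) * ρ (R.L A) * ρ (R.L A)⁻¹) := by
          rw [mul_assoc, ← map_mul, mul_inv_cancel, map_one, mul_one]
      _ = LinearMap.trace ℂ W (R.proj ρ ψ s) := by
          rw [← R.L_mul_proj, LinearMap.trace_mul_comm, ← mul_assoc, ← map_mul, inv_mul_cancel,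
            map_one, one_mul]
  exact_mod_cast h

/-- Transitivity on non-zero weights. -/
def Trans : Prop := ∀ s t : Fin m → F, s ≠ 0 → t ≠ 0 → ∃ A, R.act A s = t

theorem rk_eq [DecidableEq F] [FiniteDimensional ℂ W] (hψ : ψ ≠ 1) (hT : R.Trans)
    {s t : Fin m → F} (hs : s ≠ 0) (ht : t ≠ 0) : R.rk ρ ψ s = R.rk ρ ψ t := by
  obtain ⟨A, rfl⟩ := hT s t hs ht
  rw [R.rk_act ρ ψ hψ]

/-- `dim W = (q^m - 1) μ + w`. -/
theorem finrank_eq [DecidableEq F] [FiniteDimensional ℂ W] (hψ : ψ ≠ 1) (hT : R.Trans)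
    {e : Fin m → F} (he : e ≠ 0) :
    Module.finrank ℂ W = (Fintype.card F ^ m - 1) * R.rk ρ ψ e + R.rk ρ ψ 0 := by
  have h : ∑ s, R.rk ρ ψ s = Module.finrank ℂ W := by
    have : ((∑ s, R.rk ρ ψ s : ℕ) : ℂ) = (Module.finrank ℂ W : ℂ) := by
      push_cast
      simp only [← R.trace_proj ρ ψ hψ]
      rw [← map_sum, R.sum_proj ρ ψ hψ, LinearMap.trace_one]
    exact_mod_cast this
  rw [← h, ← Finset.sum_erase_add _ _ (Finset.mem_univ (0 : Fin m → F)),
    Finset.sum_congr rfl (fun s hs => R.rk_eq ρ ψ hψ hT (Finset.ne_of_mem_erase hs) he),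
    Finset.sum_const, Finset.card_erase_of_mem (Finset.mem_univ _), Finset.card_univ,
    Fintype.card_fun, Fintype.card_fin, smul_eq_mul]

theorem trace_u [DecidableEq F] [FiniteDimensional ℂ W] (hψ : ψ ≠ 1) (hT : R.Trans)
    {e x : Fin m → F} (he : e ≠ 0) (hx : x ≠ 0) :
    LinearMap.trace ℂ W (ρ (R.u x)) = (R.rk ρ ψ 0 : ℂ) - R.rk ρ ψ e := by
  have h : LinearMap.trace ℂ W (ρ (R.u x)) = ∑ s, ψ (s ⬝ᵥ x) * (R.rk ρ ψ s : ℂ) := by
    conv_lhs => rw [← mul_one (ρ (R.u x)), ← R.sum_proj ρ ψ hψ, Finset.mul_sum]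
    simp [u_mul_proj, R.trace_proj ρ ψ hψ]
  have hsum : ∑ s : Fin m → F, ψ (s ⬝ᵥ x) = 0 := by
    simp_rw [dotProduct_comm _ x]
    rw [sum_chi hψ, if_neg hx]
  rw [h, ← Finset.sum_erase_add _ _ (Finset.mem_univ (0 : Fin m → F)),
    Finset.sum_congr rfl (g := fun s => ψ (s ⬝ᵥ x) * (R.rk ρ ψ e : ℂ))
      (fun s hs => by rw [R.rk_eq ρ ψ hψ hT (Finset.ne_of_mem_erase hs) he]),
    ← Finset.sum_mul, Finset.sum_erase_eq_sub (Finset.mem_univ _), hsum]
  simp
  ring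

theorem mu_eq_one [DecidableEq F] [FiniteDimensional ℂ W] (hψ : ψ ≠ 1) (hT : R.Trans)
    {e x : Fin m → F} (he : e ≠ 0) (hx : x ≠ 0)
    (h : LinearMap.trace ℂ W (ρ (R.u x)) = (Module.finrank ℂ W : ℂ) - (Fintype.card F : ℂ) ^ m) :
    R.rk ρ ψ e = 1 := by
  have hpos : 1 ≤ Fintype.card F ^ m := Nat.one_le_pow _ _ Fintype.card_pos
  rw [R.trace_u ρ ψ hψ hT he hx, R.finrank_eq ρ ψ hψ hT he, Nat.cast_add, Nat.cast_mul,
    Nat.cast_sub hpos, Nat.cast_pow, Nat.cast_one] at h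
  have h' : (R.rk ρ ψ e : ℂ) = 1 := by
    refine mul_left_cancel₀ (pow_ne_zero m (Nat.cast_ne_zero.2 (Fintype.card_ne_zero (α := F)) :
      (Fintype.card F : ℂ) ≠ 0)) ?_
    linear_combination -h
  exact_mod_cast h'

theorem rk_pos [DecidableEq F] [FiniteDimensional ℂ W] (hψ : ψ ≠ 1) (hT : R.Trans)
    {e x : Fin m → F} (he : e ≠ 0) (h : ρ (R.u x) ≠ 1) : 0 < R.rk ρ ψ e := by
  by_contra! h0
  refine h ?_
  have h2 : ∀ s, s ≠ 0 → R.proj ρ ψ s = 0 := fun s hs => by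
    have := R.rk_eq ρ ψ hψ hT hs he
    rw [Nat.le_zero.1 h0, rk, Submodule.finrank_eq_zero, LinearMap.range_eq_bot] at this
    exact this
  have h1 := R.sum_proj ρ ψ hψ
  rw [Finset.sum_eq_single (0 : Fin m → F) (fun s _ hs => h2 s hs) (by simp)] at h1
  have := R.u_mul_proj ρ ψ 0 x
  rwa [h1, zero_dotProduct, AddChar.map_zero_eq_one, one_smul, mul_one] at this

/-! ## The fixed space -/

/-- The fixed space of the radical. -/
noncomputable def fixedSpace : Submodule ℂ W := LinearMap.range (R.proj ρ ψ 0)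

theorem L_mem_fixedSpace (A : GL (Fin m) F) {v : W} (hv : v ∈ R.fixedSpace ρ ψ) :
    ρ (R.L A) v ∈ R.fixedSpace ρ ψ := by
  obtain ⟨y, rfl⟩ := hv
  rw [← Module.End.mul_apply, R.L_mul_proj, R.act_zero]
  exact LinearMap.mem_range_self _ _

theorem u_fixedSpace (x : Fin m → F) {v : W} (hv : v ∈ R.fixedSpace ρ ψ) : ρ (R.u x) v = v := by
  obtain ⟨y, rfl⟩ := hv
  rw [R.u_proj_apply, zero_dotProduct, AddChar.map_zero_eq_one, one_smul]

/-- The Levi part acting on the fixed space. -/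
noncomputable def fixedRep : Representation ℂ (GL (Fin m) F) (R.fixedSpace ρ ψ) where
  toFun A := (ρ (R.L A)).restrict fun _ hv => R.L_mem_fixedSpace ρ ψ A hv
  map_one' := LinearMap.ext fun v => Subtype.ext (by simp)
  map_mul' A B := LinearMap.ext fun v => Subtype.ext (by simp)

theorem fixedRep_coe (A : GL (Fin m) F) (v : R.fixedSpace ρ ψ) :
    (R.fixedRep ρ ψ A v : W) = ρ (R.L A) v := rfl

theorem finrank_fixedSpace : Module.finrank ℂ (R.fixedSpace ρ ψ) = R.rk ρ ψ 0 := rfl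

theorem L_proj_eq_proj [DecidableEq F] [FiniteDimensional ℂ W]
    (hψ : ψ ≠ 1) {s : Fin m → F} (h1 : R.rk ρ ψ s = 1) {A B : GL (Fin m) F}
    (hA : R.act A s = s) (hB : R.act B s = s) :
    ρ (R.L (A * B * A⁻¹ * B⁻¹)) * R.proj ρ ψ s = R.proj ρ ψ s := by
  obtain ⟨⟨v, hv⟩, hv0, hspan⟩ := finrank_eq_one_iff'.1 h1
  have hpv : R.proj ρ ψ s v = v := by
    obtain ⟨y, rfl⟩ := hv
    exact LinearMap.congr_fun (R.isIdempotent_proj ρ ψ hψ s) y
  have hsc : ∀ C, R.act C s = s → ∃ c : ℂ, ρ (R.L C) v = c • v := fun C hC => by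
    have hmem : ρ (R.L C) v ∈ LinearMap.range (R.proj ρ ψ s) := by
      rw [← hpv, ← Module.End.mul_apply, R.L_mul_proj, hC]
      exact LinearMap.mem_range_self _ _
    obtain ⟨c, hc⟩ := hspan ⟨_, hmem⟩
    exact ⟨c, (congrArg Subtype.val hc).symm⟩
  obtain ⟨a, ha⟩ := hsc A hA
  obtain ⟨b, hb⟩ := hsc B hB
  have hv0' : v ≠ 0 := fun h => hv0 (Subtype.ext h)
  have inv : ∀ (C : GL (Fin m) F) (c : ℂ), ρ (R.L C) v = c • v → ρ (R.L C⁻¹) v = c⁻¹ • v := by
    intro C c hc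
    have e : v = c • ρ (R.L C⁻¹) v := by
      rw [← map_smul, ← hc, ← Module.End.mul_apply, ← map_mul, ← map_mul, inv_mul_cancel, map_one,
        map_one, Module.End.one_apply]
    have hc0 : c ≠ 0 := fun h => hv0' (by rw [e, h, zero_smul])
    conv_rhs => rw [e, smul_smul, inv_mul_cancel₀ hc0, one_smul]
  refine LinearMap.ext fun w => ?_
  obtain ⟨c, hc⟩ := hspan ⟨R.proj ρ ψ s w, LinearMap.mem_range_self _ _⟩
  have hc' : R.proj ρ ψ s w = c • v := (congrArg Subtype.val hc).symm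
  rw [Module.End.mul_apply, hc', map_smul]
  congr 1
  simp only [map_mul, Module.End.mul_apply, inv B b hb, inv A a ha, map_smul, hb, ha, smul_smul]
  have hb0 : b ≠ 0 := fun h => hv0' (by
    have := congrArg (ρ (R.L B⁻¹)) hb
    rwa [h, zero_smul, map_zero, ← Module.End.mul_apply, ← map_mul, ← map_mul, inv_mul_cancel,
      map_one, map_one] at this)
  have ha0 : a ≠ 0 := fun h => hv0' (by
    have := congrArg (ρ (R.L A⁻¹)) ha
    rwa [h, zero_smul, map_zero, ← Module.End.mul_apply, ← map_mul, ← map_mul, inv_mul_cancel,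
      map_one, map_one] at this)
  rw [show b⁻¹ * (a⁻¹ * (b * a)) = 1 by field_simp, one_smul]

/-- The trace of a Levi element fixing a hyperplane of weights. -/
theorem trace_L [DecidableEq F] [FiniteDimensional ℂ W] (hψ : ψ ≠ 1) (hT : R.Trans)
    {e : Fin m → F} (he : e ≠ 0) (h1 : R.rk ρ ψ e = 1) (A : GL (Fin m) F)
    (hA : ∀ s, s ≠ 0 → R.act A s = s → ρ (R.L A) * R.proj ρ ψ s = R.proj ρ ψ s) :
    LinearMap.trace ℂ W (ρ (R.L A)) =
      ((Finset.univ.filter fun s => s ≠ 0 ∧ R.act A s = s).card : ℂ) +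
        LinearMap.trace ℂ _ (R.fixedRep ρ ψ A) := by
  have h : LinearMap.trace ℂ W (ρ (R.L A)) =
      ∑ s, LinearMap.trace ℂ W (ρ (R.L A) * R.proj ρ ψ s) := by
    rw [← map_sum, ← Finset.mul_sum, R.sum_proj ρ ψ hψ, mul_one]
  have hmove : ∀ s, R.act A s ≠ s → LinearMap.trace ℂ W (ρ (R.L A) * R.proj ρ ψ s) = 0 :=
    fun s hs => by
    rw [← (R.isIdempotent_proj ρ ψ hψ s).eq, ← mul_assoc, LinearMap.trace_mul_comm, R.L_mul_proj,
      ← mul_assoc, R.proj_mul_proj ρ ψ hψ, if_neg (Ne.symm hs), zero_mul, map_zero]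
  have h0 : LinearMap.trace ℂ W (ρ (R.L A) * R.proj ρ ψ 0) =
      LinearMap.trace ℂ _ (R.fixedRep ρ ψ A) := by
    have hmem : ∀ v, (ρ (R.L A) * R.proj ρ ψ 0) v ∈ R.fixedSpace ρ ψ := fun v =>
      R.L_mem_fixedSpace ρ ψ A (LinearMap.mem_range_self _ v)
    rw [← LinearMap.trace_restrict_eq_of_forall_mem _ _ hmem]
    congr 1
    refine LinearMap.ext fun v => Subtype.ext ?_
    show ρ (R.L A) (R.proj ρ ψ 0 v.1) = ρ (R.L A) v.1
    rw [R.proj_apply_weight ρ ψ hψ (s := 0) (fun x => by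
      rw [zero_dotProduct, AddChar.map_zero_eq_one, one_smul, R.u_fixedSpace ρ ψ x v.2]),
      if_pos rfl]
  rw [h, ← Finset.sum_erase_add _ _ (Finset.mem_univ (0 : Fin m → F)), h0]
  congr 1
  rw [← Finset.filter_ne' Finset.univ (0 : Fin m → F), Finset.sum_filter,
    Finset.sum_congr rfl (g := fun s => if s ≠ 0 ∧ R.act A s = s then (1 : ℂ) else 0) (fun s _ => ?_),
    Finset.sum_boole]
  by_cases hs : s = 0
  · simp [hs]
  by_cases hf : R.act A s = s
  · rw [if_pos hs, if_pos ⟨hs, hf⟩, hA s hs hf, R.trace_proj ρ ψ hψ, R.rk_eq ρ ψ hψ hT hs he, h1,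
      Nat.cast_one]
  · rw [if_pos hs, if_neg (fun hh => hf hh.2), hmove s hf]

end Radical

end Cfsg.Agent.SLDeg
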