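import Cfsg.Agent.Lib.SLDeg.Radical
import Cfsg.Agent.Lib.Linear.SLn
import Cfsg.Agent.Lib.AutPSL.Geometry

/-!
# The two radical settings `GL_{m+1}`, `SL_{m+1}` and the stabiliser commutators
* `glRad`, `slRad`, `Stab` (transvection is a commutator in the stabiliser of a weight)
* `step` : the fixed space again satisfies the transvection trace condition
-/

set_option autoImplicit false

open Matrix

namespace Cfsg.Agent.SLDeg

variable {ι : Type*} [Fintype ι] [DecidableEq ι] {F : Type*} [Field F] {m : ℕ}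

/-- An elementary transvection in `GL`. -/
def tvGL {i j : ι} (hij : i ≠ j) (t : F) : GL ι F :=
  Matrix.SpecialLinearGroup.toGL (Matrix.SpecialLinearGroup.transvection hij t)

theorem tvGL_mulVec {i j : ι} (hij : i ≠ j) (t : F) (v : ι → F) (k : ι) :
    ((tvGL hij t).1 *ᵥ v) k = v k + if k = i then t * v j else 0 :=
  Linear.transvection_smul_apply hij t v k

theorem tvGL_add {i j : ι} (hij : i ≠ j) (s t : F) :
    tvGL hij (s + t) = tvGL hij s * tvGL hij t := by
  refine Units.ext (Matrix.mulVec_injective (funext fun v => funext fun k => ?_))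
  rw [Units.val_mul, ← Matrix.mulVec_mulVec, tvGL_mulVec, tvGL_mulVec, tvGL_mulVec, tvGL_mulVec]
  by_cases hk : k = i
  · simp [hk, hij.symm]; ring
  · simp [hk]

theorem gl_ext_mulVec {g h : GL ι F} (H : ∀ v : ι → F, g.1 *ᵥ v = h.1 *ᵥ v) : g = h :=
  Units.ext (Matrix.mulVec_injective (funext H))

theorem tvGL_inv {i j : ι} (hij : i ≠ j) (t : F) : (tvGL hij t)⁻¹ = tvGL hij (-t) := by
  refine inv_eq_of_mul_eq_one_right ?_
  rw [← tvGL_add, add_neg_cancel]
  exact gl_ext_mulVec fun v => funext fun k => by simp [tvGL_mulVec]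

/-! ## The settings -/

theorem blk_mulVec (a : Matrix (Fin m) (Fin m) F) (b : Matrix (Fin m) (Fin 1) F)
    (c : Matrix (Fin 1) (Fin m) F) (d : Matrix (Fin 1) (Fin 1) F) (v : Fin m ⊕ Fin 1 → F) :
    fromBlocks a b c d *ᵥ v = Sum.elim (a *ᵥ (v ∘ Sum.inl) + b *ᵥ (v ∘ Sum.inr))
      (c *ᵥ (v ∘ Sum.inl) + d *ᵥ (v ∘ Sum.inr)) :=
  Matrix.fromBlocks_mulVec a b c d v

/-- The row radical element. -/
def uSL (x : Fin m → F) : SpecialLinearGroup (Fin m ⊕ Fin 1) F :=
  ⟨fromBlocks 1 0 (Matrix.replicateRow (Fin 1) x) 1, by simp⟩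

theorem uSL_add (x y : Fin m → F) : uSL (x + y) = uSL x * uSL y := by
  refine Subtype.ext ?_
  show fromBlocks _ _ _ _ = fromBlocks _ _ _ _ * fromBlocks _ _ _ _
  rw [fromBlocks_multiply]
  simp [Matrix.replicateRow_add]

/-- The Levi part of `SL`. -/
noncomputable def levSL : GL (Fin m) F →* SpecialLinearGroup (Fin m ⊕ Fin 1) F where
  toFun A := ⟨fromBlocks A.1 0 0 ((A.1.det)⁻¹ • 1), by
    have : A.1.det ≠ 0 := (Matrix.GeneralLinearGroup.det A).ne_zero
    simp [this]⟩
  map_one' := Subtype.ext (by simp)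
  map_mul' A B := Subtype.ext (by
    show fromBlocks _ _ _ _ = fromBlocks _ _ _ _ * fromBlocks _ _ _ _
    rw [fromBlocks_multiply]
    simp [Matrix.det_mul, mul_comm, smul_smul])

/-- The Levi part of `GL`. -/
def levGL : GL (Fin m) F →* GL (Fin m ⊕ Fin 1) F where
  toFun A := ⟨fromBlocks A.1 0 0 1, fromBlocks (A⁻¹).1 0 0 1,
    by simp [fromBlocks_multiply], by simp [fromBlocks_multiply]⟩
  map_one' := Units.ext (by simp)
  map_mul' A B := Units.ext (by
    show fromBlocks _ _ _ _ = fromBlocks _ _ _ _ * fromBlocks _ _ _ _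
    rw [fromBlocks_multiply]; simp)

variable (m F) in
/-- The radical of `GL_{m+1}`. -/
noncomputable def glRad : Radical m F (GL (Fin m ⊕ Fin 1) F) where
  u x := Matrix.SpecialLinearGroup.toGL (uSL x)
  u_add x y := by rw [uSL_add, map_mul]
  L := levGL
  tw _ := 1
  tw_ne _ := one_ne_zero
  move A x := by
    refine gl_ext_mulVec fun v => ?_
    show (fromBlocks 1 0 (Matrix.replicateRow (Fin 1) x) 1 * fromBlocks A.1 0 0 1) *ᵥ v =
      (fromBlocks A.1 0 0 1 *
        fromBlocks 1 0 (Matrix.replicateRow (Fin 1) ((1 : F) • (A.1ᵀ *ᵥ x))) 1) *ᵥ v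
    simp [fromBlocks_multiply, Matrix.replicateRow_vecMul, Matrix.mulVec_transpose]

variable (m F) in
/-- The radical of `SL_{m+1}`. -/
noncomputable def slRad : Radical m F (SpecialLinearGroup (Fin m ⊕ Fin 1) F) where
  u := uSL
  u_add := uSL_add
  L := levSL
  tw A := A.1.det
  tw_ne A := (Matrix.GeneralLinearGroup.det A).ne_zero
  move A x := by
    refine Subtype.ext ?_
    show fromBlocks 1 0 (Matrix.replicateRow (Fin 1) x) 1 * fromBlocks A.1 0 0 ((A.1.det)⁻¹ • 1) =
      fromBlocks A.1 0 0 ((A.1.det)⁻¹ • 1) *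
        fromBlocks 1 0 (Matrix.replicateRow (Fin 1) (A.1.det • (A.1ᵀ *ᵥ x))) 1
    have : A.1.det ≠ 0 := (Matrix.GeneralLinearGroup.det A).ne_zero
    simp [fromBlocks_multiply, Matrix.replicateRow_vecMul, Matrix.mulVec_transpose,
      Matrix.replicateRow_smul, smul_smul, this]

/-! ## Stabiliser commutators -/

variable {G : Type*} [Group G]

/-- The transvection `T_{ij}(1)` is a commutator inside the stabiliser of each weight it fixes. -/
def StabComm (R : Radical m F G) (i j : Fin m) (hij : i ≠ j) : Prop :=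
  ∀ s : Fin m → F, s ≠ 0 → R.act (tvGL hij 1) s = s → ∃ A B : GL (Fin m) F,
    R.act A s = s ∧ R.act B s = s ∧ tvGL hij 1 = A * B * A⁻¹ * B⁻¹

/-- A twist that is multiplicative and trivial on `SL`. -/
def GoodTwist (R : Radical m F G) : Prop :=
  (∀ A B, R.tw (A * B) = R.tw A * R.tw B) ∧
    ∀ g : SpecialLinearGroup (Fin m) F, R.tw (Matrix.SpecialLinearGroup.toGL g) = 1

theorem tw_tvGL {R : Radical m F G} (hR : GoodTwist R) {i j : Fin m} (hij : i ≠ j) (t : F) :
    R.tw (tvGL hij t) = 1 := hR.2 _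

theorem act_tvGL {R : Radical m F G} (hR : GoodTwist R) {i j : Fin m} (hij : i ≠ j) (t : F)
    (s : Fin m → F) (k : Fin m) :
    R.act (tvGL hij t) s k = s k + if k = i then t * s j else 0 := by
  rw [Radical.act, tw_tvGL hR, one_smul, tvGL_mulVec]

theorem act_tvGL_eq_iff {R : Radical m F G} (hR : GoodTwist R) {i j : Fin m} (hij : i ≠ j) {t : F}
    (ht : t ≠ 0) (s : Fin m → F) : R.act (tvGL hij t) s = s ↔ s j = 0 := by
  refine ⟨fun h => ?_, fun h => funext fun k => by rw [act_tvGL hR]; simp [h]⟩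
  have := congrFun h i
  rw [act_tvGL hR, if_pos rfl] at this
  simpa [ht] using this

/-- The diagonal element. -/
def diagGL (d : Fin m → Fˣ) : GL (Fin m) F :=
  ⟨Matrix.diagonal fun k => (d k : F), Matrix.diagonal fun k => ((d k)⁻¹ : Fˣ),
    by simp [Matrix.diagonal_mul_diagonal], by simp [Matrix.diagonal_mul_diagonal]⟩

theorem diagGL_mulVec (d : Fin m → Fˣ) (v : Fin m → F) (k : Fin m) :
    ((diagGL d).1 *ᵥ v) k = d k * v k := Matrix.mulVec_diagonal _ _ k

theorem stabComm_of_scale {R : Radical m F G} (hR : GoodTwist R) {i j : Fin m} (hij : i ≠ j)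
    {s : Fin m → F} (hs : s j = 0) (A : GL (Fin m) F) (hA : R.act A s = s) {r : F} (hr : r ≠ 1)
    (hAT : ∀ t, A * tvGL hij t = tvGL hij (r * t) * A) :
    ∃ A B : GL (Fin m) F, R.act A s = s ∧ R.act B s = s ∧ tvGL hij 1 = A * B * A⁻¹ * B⁻¹ := by
  refine ⟨A, tvGL hij (r - 1)⁻¹, hA,
    (act_tvGL_eq_iff hR hij (inv_ne_zero (sub_ne_zero_of_ne hr)) s).2 hs, ?_⟩
  rw [hAT, mul_inv_cancel_right, tvGL_inv, ← tvGL_add]
  congr 1
  rw [← sub_eq_add_neg, ← sub_one_mul, mul_inv_cancel₀ (sub_ne_zero_of_ne hr)]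

theorem tv_comm {i j k : Fin m} (hik : i ≠ k) (hkj : k ≠ j) (hij : i ≠ j) (a b : F) :
    tvGL hik a * tvGL hkj b * (tvGL hik a)⁻¹ * (tvGL hkj b)⁻¹ = tvGL hij (a * b) := by
  rw [tvGL, tvGL, tvGL, ← map_inv, ← map_inv, ← map_mul, ← map_mul, ← map_mul,
    ← commutatorElement_def, Linear.transvection_mul_comm hik hkj hij]

/-- Case of a weight with some third coordinate zero, or two further coordinates. -/
theorem stabComm_of_coords {R : Radical m F G} (hR : GoodTwist R) {i j : Fin m} (hij : i ≠ j)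
    {s : Fin m → F} (hsj : s j = 0)
    (h : (∃ k, i ≠ k ∧ k ≠ j ∧ s k = 0) ∨
      ∃ k l, i ≠ k ∧ k ≠ j ∧ i ≠ l ∧ l ≠ j ∧ k ≠ l ∧ s l ≠ 0) :
    ∃ A B : GL (Fin m) F, R.act A s = s ∧ R.act B s = s ∧ tvGL hij 1 = A * B * A⁻¹ * B⁻¹ := by
  rcases h with ⟨k, hik, hkj, hk⟩ | ⟨k, l, hik, hkj, hil, hlj, hkl, hl⟩
  · refine ⟨tvGL hik 1, tvGL hkj 1, (act_tvGL_eq_iff hR hik one_ne_zero s).2 hk,
      (act_tvGL_eq_iff hR hkj one_ne_zero s).2 hsj, ?_⟩
    rw [tv_comm hik hkj hij, one_mul]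
  · refine ⟨tvGL hik (s l) * tvGL hil (-s k), tvGL hkj (s l)⁻¹, funext fun a => ?_,
      (act_tvGL_eq_iff hR hkj (inv_ne_zero hl) s).2 hsj, ?_⟩
    · rw [Radical.act, hR.1, tw_tvGL hR, tw_tvGL hR, one_mul, one_smul, Units.val_mul,
        ← Matrix.mulVec_mulVec, tvGL_mulVec, tvGL_mulVec, tvGL_mulVec]
      by_cases ha : a = i
      · simp [ha, hik.symm, mul_comm]
      · simp [ha]
    · have hc : tvGL hil (-s k) * tvGL hkj (s l)⁻¹ = tvGL hkj (s l)⁻¹ * tvGL hil (-s k) :=
        gl_ext_mulVec fun v => funext fun a => by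
          simp only [Units.val_mul, ← Matrix.mulVec_mulVec, tvGL_mulVec, hkl.symm, hij.symm,
            if_false, add_zero]
          ring
      calc tvGL hij (1 : F) = tvGL hik (s l) * tvGL hkj (s l)⁻¹ * (tvGL hik (s l))⁻¹ *
            (tvGL hkj (s l)⁻¹)⁻¹ := by rw [tv_comm hik hkj hij, mul_inv_cancel₀ hl]
        _ = tvGL hik (s l) * (tvGL hkj (s l)⁻¹ * tvGL hil (-s k)) * (tvGL hil (-s k))⁻¹ *
            (tvGL hik (s l))⁻¹ * (tvGL hkj (s l)⁻¹)⁻¹ := by group
        _ = _ := by rw [← hc]; group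

theorem stabComm_large {R : Radical m F G} (hR : GoodTwist R) (hm : 4 ≤ m) {i j : Fin m}
    (hij : i ≠ j) : StabComm R i j hij := by
  intro s hs hfix
  have hsj := (act_tvGL_eq_iff hR hij one_ne_zero s).1 hfix
  obtain ⟨k, hk⟩ : (Finset.univ \ {i, j} : Finset (Fin m)).Nonempty := by
    rw [← Finset.card_pos, Finset.card_sdiff, Finset.card_univ, Fintype.card_fin,
      Finset.inter_univ, Finset.card_pair hij]
    omega
  obtain ⟨l, hl⟩ : ((Finset.univ \ {i, j}) \ {k} : Finset (Fin m)).Nonempty := by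
    rw [← Finset.card_pos, Finset.card_sdiff, Finset.card_sdiff, Finset.card_univ, Fintype.card_fin,
      Finset.inter_univ, Finset.card_pair hij,
      Finset.inter_eq_left.2 (Finset.singleton_subset_iff.2 hk), Finset.card_singleton]
    omega
  simp only [Finset.mem_sdiff, Finset.mem_univ, true_and, Finset.mem_insert,
    Finset.mem_singleton, not_or] at hk hl
  by_cases h : s l = 0
  · exact stabComm_of_coords hR hij hsj (Or.inl ⟨l, Ne.symm hl.1.1, hl.1.2, h⟩)
  · exact stabComm_of_coords hR hij hsj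
      (Or.inr ⟨k, l, Ne.symm hk.1, hk.2, Ne.symm hl.1.1, hl.1.2, Ne.symm hl.2, h⟩)

theorem stabComm_three {R : Radical 3 F G} (hR : GoodTwist R) {a b : Fˣ} (hab : (a : F) / b ≠ 1)
    (htw : R.tw (diagGL ![a, b, 1]) = 1) : StabComm R 0 1 (by decide) := by
  intro s hs hfix
  have hsj := (act_tvGL_eq_iff hR _ one_ne_zero s).1 hfix
  by_cases h2 : s 2 = 0
  · exact stabComm_of_coords hR _ hsj (Or.inl ⟨2, by decide, by decide, h2⟩)
  refine stabComm_of_scale hR _ hsj
    (tvGL (show (0 : Fin 3) ≠ 2 by decide) ((1 - (a : F)) * s 0 / s 2) * diagGL ![a, b, 1]) ?_ hab ?_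
  · funext k
    rw [Radical.act, hR.1, tw_tvGL hR, htw, one_mul, one_smul, Units.val_mul,
      ← Matrix.mulVec_mulVec, tvGL_mulVec, diagGL_mulVec, diagGL_mulVec]
    fin_cases k <;> simp [hsj]
    field_simp
    ring
  · intro t
    refine gl_ext_mulVec fun v => funext fun k => ?_
    simp only [Units.val_mul, ← Matrix.mulVec_mulVec, tvGL_mulVec, diagGL_mulVec]
    fin_cases k <;> simp
    field_simp
    ring

theorem stabComm_two {R : Radical 2 F G} (hR : GoodTwist R) {a b : Fˣ} (hab : (a : F) / b ≠ 1)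
    (htw : R.tw (diagGL ![a, b]) * a = 1) : StabComm R 0 1 (by decide) := by
  intro s hs hfix
  have hsj := (act_tvGL_eq_iff hR _ one_ne_zero s).1 hfix
  refine stabComm_of_scale hR _ hsj (diagGL ![a, b]) ?_ hab ?_
  · funext k
    rw [Radical.act, Pi.smul_apply, diagGL_mulVec, smul_eq_mul]
    fin_cases k
    · simp [← mul_assoc, htw]
    · simp [hsj]
  · intro t
    refine gl_ext_mulVec fun v => funext fun k => ?_
    simp only [Units.val_mul, ← Matrix.mulVec_mulVec, tvGL_mulVec, diagGL_mulVec]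
    fin_cases k <;> simp
    field_simp

/-! ## The step -/

theorem card_coord_zero [Fintype F] [DecidableEq F] (j : Fin m) :
    (Finset.univ.filter fun v : Fin m → F => v j = 0).card * Fintype.card F =
      Fintype.card F ^ m := by
  let e : {v : Fin m → F // v j = 0} × F ≃ (Fin m → F) :=
    { toFun := fun p => Function.update p.1.1 j p.2
      invFun := fun v => (⟨Function.update v j 0, by simp⟩, v j)
      left_inv := fun p => by
        rcases p with ⟨⟨v, hv⟩, a⟩
        ext <;> simp [Function.update_idem, ← hv]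
      right_inv := fun v => by simp [Function.update_idem] }
  rw [← Fintype.card_subtype, ← Fintype.card_prod, Fintype.card_congr e, Fintype.card_fun,
    Fintype.card_fin]

variable [Fintype F] [DecidableEq F] {W : Type*} [AddCommGroup W] [Module ℂ W]
  [FiniteDimensional ℂ W]

/-- If the non-zero weights have multiplicity one, the fixed space satisfies the trace
condition again. -/
theorem step {R : Radical m F G} (hR : GoodTwist R) (hT : R.Trans)
    (ρ : Representation ℂ G W) {ψ : AddChar F ℂ} (hψ : ψ ≠ 1) {i j : Fin m} (hij : i ≠ j)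
    (hst : StabComm R i j hij) {x : Fin m → F} (hx : x ≠ 0)
    (hc : IsConj (R.u x) (R.L (tvGL hij 1))) {e : Fin m → F} (he : e ≠ 0)
    (h1 : R.rk ρ ψ e = 1) :
    LinearMap.trace ℂ _ (R.fixedRep ρ ψ (tvGL hij 1)) =
      (Module.finrank ℂ (R.fixedSpace ρ ψ) : ℂ) - (Fintype.card F : ℂ) ^ (m - 1) := by
  have hu := R.trace_u ρ ψ hψ hT he hx
  have hL := R.trace_L ρ ψ hψ hT he h1 (tvGL hij 1) (fun s hs hf => by
    obtain ⟨A, B, hA, hB, hAB⟩ := hst s hs hf
    rw [hAB]
    exact R.L_proj_eq_proj ρ ψ hψ ((R.rk_eq ρ ψ hψ hT hs he).trans h1) hA hB)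
  obtain ⟨c, hc⟩ := isConj_iff.1 hc
  have heq : LinearMap.trace ℂ W (ρ (R.L (tvGL hij 1))) = LinearMap.trace ℂ W (ρ (R.u x)) := by
    rw [← hc]
    exact Representation.char_conj ρ (R.u x) c
  have hq : ((Finset.univ.filter fun v : Fin m → F => v j = 0).card : ℂ) =
      (Fintype.card F : ℂ) ^ (m - 1) := by
    have h := card_coord_zero (F := F) j
    have hm : m = m - 1 + 1 := by have := j.pos; omega
    conv at h => rhs; rw [hm, pow_succ]
    rw [← Nat.cast_pow]
    exact_mod_cast Nat.eq_of_mul_eq_mul_right Fintype.card_pos h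
  have hset : (Finset.univ.filter fun v : Fin m → F => v ≠ 0 ∧ R.act (tvGL hij 1) v = v) =
      (Finset.univ.filter fun v : Fin m → F => v j = 0).erase 0 := by
    ext v
    simp [act_tvGL_eq_iff hR hij one_ne_zero, and_comm]
  have hpos : 1 ≤ (Finset.univ.filter fun v : Fin m → F => v j = 0).card :=
    Finset.one_le_card.2 ⟨0, by simp⟩
  rw [hL, hu, hset, Finset.card_erase_of_mem (by simp), Nat.cast_sub hpos, hq, h1] at heq
  rw [R.finrank_fixedSpace ρ ψ]
  push_cast at heq
  linear_combination heq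

end Cfsg.Agent.SLDeg
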