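import Cfsg.Agent.Lib.SLDeg.Setting
import Cfsg.Agent.Lib.SpWeil.QuadOrbit
import Cfsg.Agent.Lib.Char.Integral
import Cfsg.Agent.Lib.CharApp.Schur

/-!
# Tools for the minimal degree of `SL_n`
* `isConj_tv_gl`, `isConj_tv_sl`, `card_class_tv` : transvection classes
* `eq_of_relation`, `exists_orbit_fun` : doubly transitive orbit vectors
* `ge_of_irreducible` : a bound for irreducible representations holds for all non-trivial ones
* `eq_one_of_uSL` : `SL_{m+1}` is normally generated by the radical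
-/

set_option autoImplicit false

open Matrix

namespace Cfsg.Agent.SLDeg

section general

variable {ι : Type} [Fintype ι] [DecidableEq ι] {F : Type*} [Field F]

theorem tvGL_val {i j : ι} (hij : i ≠ j) (t : F) :
    (tvGL hij t).1 = 1 + Matrix.vecMulVec (Pi.single i t) (Pi.single j 1) := by
  refine Matrix.mulVec_injective (funext fun v => funext fun k => ?_)
  rw [tvGL_mulVec, Matrix.add_mulVec, Matrix.one_mulVec, Matrix.vecMulVec_mulVec]
  by_cases hk : k = i
  · subst hk; simp [mul_comm]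
  · simp [hk]

/-- The transvection `1 + v fᵀ` is carried to the standard one. -/
theorem exists_gl_move {v f : ι → F} (hv : v ≠ 0) (hf : f ≠ 0) (h : f ⬝ᵥ v = 0) {a b : ι}
    (hab : a ≠ b) :
    ∃ g : GL ι F, g.1 * (tvGL hab 1).1 = (1 + Matrix.vecMulVec v f) * g.1 := by
  have : Nontrivial ι := ⟨⟨a, b, hab⟩⟩
  obtain ⟨g, hg, hg'⟩ := Cfsg.Agent.AutPSL.exists_gl_pair hv hf h hab
  refine ⟨g, ?_⟩
  rw [tvGL_val, Matrix.mul_add, Matrix.mul_one, Matrix.mul_vecMulVec, hg, Matrix.add_mul,
    Matrix.one_mul, Matrix.vecMulVec_mul, hg']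

theorem isConj_tv_gl {a b c d : ι} (hab : a ≠ b) (hcd : c ≠ d) :
    IsConj (tvGL hab (1 : F)) (tvGL hcd (1 : F)) := by
  obtain ⟨g, hg⟩ := exists_gl_move (v := (Pi.single c 1 : ι → F)) (f := Pi.single d 1)
    (by simp) (by simp) (by simp [hcd.symm]) hab
  rw [← tvGL_val hcd] at hg
  exact isConj_iff.2 ⟨g, mul_inv_eq_iff_eq_mul.2 (Units.ext hg)⟩

theorem exists_sl_move {v f : ι → F} (hv : v ≠ 0) (hf : f ≠ 0) (h : f ⬝ᵥ v = 0) {a b c : ι}
    (hab : a ≠ b) (hca : c ≠ a) (hcb : c ≠ b) :
    ∃ g : SpecialLinearGroup ι F, g.1 * (tvGL hab 1).1 = (1 + Matrix.vecMulVec v f) * g.1 := by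
  obtain ⟨g, hg⟩ := exists_gl_move hv hf h hab
  set δ := g.1.det
  have hδ : δ ≠ 0 := (Matrix.GeneralLinearGroup.det g).ne_zero
  let D : Matrix ι ι F := Matrix.diagonal (Function.update 1 c δ⁻¹)
  refine ⟨⟨g.1 * D, ?_⟩, ?_⟩
  · rw [Matrix.det_mul, Matrix.det_diagonal, Fintype.prod_eq_single c
      (fun x hx => by rw [Function.update_of_ne hx, Pi.one_apply]), Function.update_self,
      mul_inv_cancel₀ hδ]
  · show g.1 * D * _ = _ * (g.1 * D)
    rw [Matrix.mul_assoc, show D * (tvGL hab 1).1 = (tvGL hab 1).1 * D from ?_, ← Matrix.mul_assoc,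
      hg, Matrix.mul_assoc]
    rw [tvGL_val, Matrix.mul_add, Matrix.add_mul, Matrix.mul_one, Matrix.one_mul,
      Matrix.mul_vecMulVec, Matrix.vecMulVec_mul]
    congr 2
    · refine funext fun k => ?_
      rw [Matrix.mulVec_diagonal]
      by_cases hk : k = a
      · subst hk; simp [hca.symm]
      · simp [hk]
    · refine funext fun k => ?_
      rw [Matrix.vecMul_diagonal]
      by_cases hk : k = b
      · subst hk; simp [hcb.symm]
      · simp [hk]

theorem isConj_tv_sl {a b c d e : ι} (hab : a ≠ b) (hea : e ≠ a) (heb : e ≠ b) (hcd : c ≠ d) :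
    IsConj (Matrix.SpecialLinearGroup.transvection hab (1 : F))
      (Matrix.SpecialLinearGroup.transvection hcd (1 : F)) := by
  obtain ⟨g, hg⟩ := exists_sl_move (v := (Pi.single c 1 : ι → F)) (f := Pi.single d 1)
    (by simp) (by simp) (by simp [hcd.symm]) hab hea heb
  rw [← tvGL_val hcd] at hg
  exact isConj_iff.2 ⟨g, mul_inv_eq_iff_eq_mul.2 (Subtype.ext hg)⟩

theorem card_pairs [Fintype F] :
    Nat.card {p : (ι → F) × (ι → F) // p.1 ≠ 0 ∧ p.2 ≠ 0 ∧ p.2 ⬝ᵥ p.1 = 0} =
      (Fintype.card F ^ Fintype.card ι - 1) *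
        (Fintype.card F ^ (Fintype.card ι - 1) - 1) := by
  classical
  let e : {p : (ι → F) × (ι → F) // p.1 ≠ 0 ∧ p.2 ≠ 0 ∧ p.2 ⬝ᵥ p.1 = 0} ≃
      Σ v : {v : ι → F // v ≠ 0}, {f : ι → F // f ≠ 0 ∧ f ⬝ᵥ v.1 = 0} :=
    { toFun := fun p => ⟨⟨p.1.1, p.2.1⟩, ⟨p.1.2, p.2.2⟩⟩
      invFun := fun s => ⟨(s.1.1, s.2.1), s.1.2, s.2.2⟩
      left_inv := fun _ => rfl
      right_inv := fun _ => rfl }
  have hfib : ∀ v : {v : ι → F // v ≠ 0}, Fintype.card {f : ι → F // f ≠ 0 ∧ f ⬝ᵥ v.1 = 0} =
      Fintype.card F ^ (Fintype.card ι - 1) - 1 := fun v => by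
    let φ : (ι → F) →ₗ[F] F :=
      { toFun := fun f => f ⬝ᵥ v.1
        map_add' := fun f g => add_dotProduct f g v.1
        map_smul' := fun c f => smul_dotProduct c f v.1 }
    have hφ : φ ≠ 0 := fun h => by
      obtain ⟨l, hl⟩ := Function.ne_iff.1 v.2
      exact hl (by simpa [φ] using LinearMap.congr_fun h (Pi.single l 1))
    have hr := φ.finrank_range_add_finrank_ker
    rw [LinearMap.range_eq_top.2 (LinearMap.surjective hφ), finrank_top, Module.finrank_self,
      Module.finrank_pi] at hr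
    have hk : Nat.card (LinearMap.ker φ) = Fintype.card F ^ (Fintype.card ι - 1) := by
      rw [Module.natCard_eq_pow_finrank (K := F), Nat.card_eq_fintype_card]
      congr 1
      omega
    rw [← hk, Nat.card_eq_fintype_card, Fintype.card_subtype, Fintype.card_subtype,
      ← Finset.card_erase_of_mem (a := (0 : ι → F)) (by simp [φ])]
    congr 1
    ext f
    simp [φ]
  rw [Nat.card_congr e, Nat.card_eq_fintype_card, Fintype.card_sigma,
    Finset.sum_congr rfl fun v _ => hfib v, Finset.sum_const, Finset.card_univ,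
    Fintype.card_subtype_compl, Fintype.card_subtype_eq, Fintype.card_fun, smul_eq_mul]

/-- The size of the class of transvections. -/
theorem card_class_tv [Fintype F] {a b c : ι} (hab : a ≠ b) (hca : c ≠ a) (hcb : c ≠ b) :
    (Subgroup.centralizer
      ({Matrix.SpecialLinearGroup.transvection hab (1 : F)} : Set (SpecialLinearGroup ι F))).index *
        (Fintype.card F - 1) =
      (Fintype.card F ^ Fintype.card ι - 1) * (Fintype.card F ^ (Fintype.card ι - 1) - 1) := by
  classical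
  set t := Matrix.SpecialLinearGroup.transvection hab (1 : F)
  have ht : t.1 = 1 + Matrix.vecMulVec (Pi.single a 1) (Pi.single b 1) := tvGL_val hab 1
  let P := {p : (ι → F) × (ι → F) // p.1 ≠ 0 ∧ p.2 ≠ 0 ∧ p.2 ⬝ᵥ p.1 = 0}
  let C := {x : SpecialLinearGroup ι F // IsConj t x}
  have hC : ∀ x : C, ∃ p : P, x.1.1 = 1 + Matrix.vecMulVec p.1.1 p.1.2 := fun x => by
    obtain ⟨g, hg⟩ := isConj_iff.1 x.2
    have h1 : (g⁻¹).1 * g.1 = 1 := congrArg Subtype.val (inv_mul_cancel g)
    have h2 : g.1 * (g⁻¹).1 = 1 := congrArg Subtype.val (mul_inv_cancel g)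
    refine ⟨⟨(g.1 *ᵥ Pi.single a 1, Pi.single b 1 ᵥ* (g⁻¹).1), fun h => ?_, fun h => ?_, ?_⟩, ?_⟩
    · have := congrArg (fun z => (g⁻¹).1 *ᵥ z) h
      rw [Matrix.mulVec_mulVec, h1, Matrix.one_mulVec, Matrix.mulVec_zero] at this
      simp at this
    · have := congrArg (fun z => z ᵥ* g.1) h
      rw [Matrix.vecMul_vecMul, h1, Matrix.vecMul_one, Matrix.zero_vecMul] at this
      simp at this
    · show (Pi.single b 1 ᵥ* (g⁻¹).1) ⬝ᵥ (g.1 *ᵥ Pi.single a 1) = 0
      rw [Matrix.dotProduct_mulVec, Matrix.vecMul_vecMul, h1, Matrix.vecMul_one]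
      simp [hab.symm]
    · rw [← hg]
      show g.1 * t.1 * (g⁻¹).1 = _
      rw [ht, Matrix.mul_add, Matrix.mul_one, Matrix.add_mul, h2, Matrix.mul_vecMulVec,
        Matrix.vecMulVec_mul]
  choose rep hrep using hC
  have hmem : ∀ p : P, ∃ x : C, x.1.1 = 1 + Matrix.vecMulVec p.1.1 p.1.2 := fun p => by
    obtain ⟨g, hg⟩ := exists_sl_move p.2.1 p.2.2.1 p.2.2.2 hab hca hcb
    refine ⟨⟨g * t * g⁻¹, isConj_iff.2 ⟨g, rfl⟩⟩, ?_⟩
    show g.1 * t.1 * (g⁻¹).1 = _
    rw [show g.1 * t.1 = (1 + Matrix.vecMulVec p.1.1 p.1.2) * g.1 from hg, Matrix.mul_assoc,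
      show g.1 * (g⁻¹).1 = 1 from congrArg Subtype.val (mul_inv_cancel g), Matrix.mul_one]
  let Φ : Fˣ × C → P := fun z => ⟨((z.1 : F) • (rep z.2).1.1, (z.1⁻¹ : Fˣ).val • (rep z.2).1.2),
    smul_ne_zero z.1.ne_zero (rep z.2).2.1, smul_ne_zero (Units.ne_zero _) (rep z.2).2.2.1,
    by rw [smul_dotProduct, dotProduct_smul, (rep z.2).2.2.2, smul_zero, smul_zero]⟩
  have hvv : ∀ z : Fˣ × C, Matrix.vecMulVec (Φ z).1.1 (Φ z).1.2 =
      Matrix.vecMulVec (rep z.2).1.1 (rep z.2).1.2 := fun z => by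
    simp [Φ, Matrix.smul_vecMulVec, Matrix.vecMulVec_smul, smul_smul]
  have hbij : Function.Bijective Φ := by
    constructor
    · rintro ⟨c₁, x⟩ ⟨c₂, y⟩ h
      have hxy : x = y := Subtype.ext (Subtype.ext (by
        rw [hrep x, hrep y, ← hvv (c₁, x), ← hvv (c₂, y), h]))
      subst hxy
      have h1 : (c₁ : F) • (rep x).1.1 = (c₂ : F) • (rep x).1.1 :=
        congrArg (fun p : P => p.1.1) h
      exact Prod.ext (Units.ext (smul_left_injective F (rep x).2.1 h1)) rfl
    · intro p
      obtain ⟨x, hx⟩ := hmem p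
      have he : Matrix.vecMulVec p.1.1 p.1.2 = Matrix.vecMulVec (rep x).1.1 (rep x).1.2 :=
        add_left_cancel (hx.symm.trans (hrep x))
      obtain ⟨l, hl⟩ := Function.ne_iff.1 (rep x).2.2.1
      have hl' : (rep x).1.2 l ≠ 0 := hl
      have e1 : p.1.2 l • p.1.1 = (rep x).1.2 l • (rep x).1.1 := funext fun k => by
        have := congrFun (congrFun he k) l
        simpa [Matrix.vecMulVec_apply, mul_comm] using this
      have hpl : p.1.2 l ≠ 0 := fun h0 => (rep x).2.1 (by
        rw [h0, zero_smul] at e1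
        exact (smul_eq_zero.1 e1.symm).resolve_left hl')
      set c : Fˣ := Units.mk0 ((rep x).1.2 l / p.1.2 l) (div_ne_zero hl' hpl)
      have hv : p.1.1 = (c : F) • (rep x).1.1 := by
        rw [Units.val_mk0, div_eq_inv_mul, mul_smul, ← e1, inv_smul_smul₀ hpl]
      refine ⟨(c, x), Subtype.ext (Prod.ext hv.symm ?_)⟩
      obtain ⟨i, hi⟩ := Function.ne_iff.1 (rep x).2.1
      refine funext fun k => ?_
      have := congrFun (congrFun he i) k
      rw [Matrix.vecMulVec_apply, Matrix.vecMulVec_apply, hv, Pi.smul_apply, smul_eq_mul] at this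
      show (c⁻¹ : Fˣ).val * (rep x).1.2 k = p.1.2 k
      rw [Units.val_inv_eq_inv_val, inv_mul_eq_iff_eq_mul₀ c.ne_zero]
      exact mul_left_cancel₀ (show (rep x).1.1 i ≠ 0 from hi) (by linear_combination -this)
  have hidx : (Subgroup.centralizer ({t} : Set (SpecialLinearGroup ι F))).index = Nat.card C :=
    Nat.eq_of_mul_eq_mul_right Nat.card_pos
      ((Subgroup.index_mul_card _).trans (Char.card_conjugates_mul_card_centralizer t).symm)
  rw [hidx, ← card_pairs, ← Nat.card_eq_of_bijective Φ hbij, Nat.card_prod, Nat.card_units,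
    Nat.card_eq_fintype_card (α := F), mul_comm]

/-- `SL` is doubly transitive on points, dimension at least three. -/
theorem exists_sl_two {a b c : ι} (hab : a ≠ b) (hca : c ≠ a) (hcb : c ≠ b) {v w : ι → F}
    (h : LinearIndependent F ![v, w]) :
    ∃ g : SpecialLinearGroup ι F, g.1 *ᵥ Pi.single a 1 = v ∧ g.1 *ᵥ Pi.single b 1 = w := by
  have hli : LinearIndependent F ![(Pi.single a 1 : ι → F), Pi.single b 1] := by
    refine LinearIndependent.pair_iff.2 fun s t hst => ⟨?_, ?_⟩
    · simpa [hab] using congrFun hst a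
    · simpa [hab.symm] using congrFun hst b
  let e := hli.linearCombinationEquiv.symm ≪≫ₗ h.linearCombinationEquiv
  have : FiniteDimensional F (Submodule.span F (Set.range ![(Pi.single a 1 : ι → F), Pi.single b 1])) :=
    FiniteDimensional.span_of_finite F (Set.finite_range _)
  obtain ⟨g, hg⟩ := Submodule.exists_linearEquiv_restrict_eq e
  have ha : g (Pi.single a 1) = v := by
    have := hg ⟨_, Submodule.subset_span ⟨0, rfl⟩⟩
    rw [← show hli.linearCombinationEquiv (Finsupp.single 0 1) =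
      ⟨_, Submodule.subset_span ⟨0, rfl⟩⟩ from Subtype.ext (by simp)] at this
    simp [e] at this
    exact this.symm
  have hb : g (Pi.single b 1) = w := by
    have := hg ⟨_, Submodule.subset_span ⟨1, rfl⟩⟩
    rw [← show hli.linearCombinationEquiv (Finsupp.single 1 1) =
      ⟨_, Submodule.subset_span ⟨1, rfl⟩⟩ from Subtype.ext (by simp)] at this
    simp [e] at this
    exact this.symm
  set M := LinearMap.toMatrix' g.toLinearMap
  have hM : M.det ≠ 0 := by
    have : M * LinearMap.toMatrix' g.symm.toLinearMap = 1 := by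
      rw [← LinearMap.toMatrix'_comp]; simp
    exact fun h0 => by simpa [h0] using congrArg Matrix.det this
  let D : Matrix ι ι F := Matrix.diagonal (Function.update 1 c M.det⁻¹)
  have hD : ∀ x, x ≠ c → D *ᵥ Pi.single x 1 = Pi.single x 1 := fun x hx => funext fun k => by
    rw [Matrix.mulVec_diagonal]
    by_cases hk : k = x
    · subst hk; simp [hx]
    · simp [hk]
  refine ⟨⟨M * D, ?_⟩, ?_, ?_⟩
  · rw [Matrix.det_mul, Matrix.det_diagonal, Fintype.prod_eq_single c
      (fun x hx => by rw [Function.update_of_ne hx, Pi.one_apply]), Function.update_self,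
      mul_inv_cancel₀ hM]
  · show (M * D) *ᵥ _ = v
    rw [← Matrix.mulVec_mulVec, hD a hca.symm, LinearMap.toMatrix'_mulVec]
    exact ha
  · show (M * D) *ᵥ _ = w
    rw [← Matrix.mulVec_mulVec, hD b hcb.symm, LinearMap.toMatrix'_mulVec]
    exact hb

end general

/-! ## Orbit vectors of a doubly transitive action -/

section orbit

variable {G : Type*} [Group G] [Fintype G] {X : Type*} [Fintype X] [MulAction G X]
  {W : Type*} [AddCommGroup W] [Module ℂ W] (ρ : Representation ℂ G W)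

/-- A sum-zero relation between equivariant vectors makes them all equal. -/
theorem eq_of_relation (hP : MulAction.IsPretransitive G X)
    (h2 : ∀ a y z : X, y ≠ a → z ≠ a → ∃ g : G, g • a = a ∧ g • y = z)
    (v : X → W) (hv : ∀ g x, ρ g (v x) = v (g • x)) (c : X → ℂ) (hc0 : c ≠ 0)
    (hsum : ∑ x, c x = 0) (hrel : ∑ x, c x • v x = 0) : ∀ x y, v x = v y := by
  classical
  obtain ⟨a, ha⟩ := Function.ne_iff.1 hc0
  have ha : c a ≠ 0 := ha
  set S := Finset.univ.filter fun g : G => g • a = a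
  set U : X → W := fun y => ∑ g ∈ S, v (g • y)
  set T : W := ∑ y ∈ Finset.univ.erase a, v y
  have hU : ∀ y z, y ≠ a → z ≠ a → U y = U z := fun y z hy hz => by
    obtain ⟨h, hha, hhy⟩ := h2 a y z hy hz
    have hha' : h⁻¹ • a = a := by rw [inv_smul_eq_iff, hha]
    refine Finset.sum_equiv (Equiv.mulRight h⁻¹) (fun g => ?_) fun g hg => ?_
    · simp [S, mul_smul, hha']
    · rw [Equiv.coe_mulRight, mul_smul, ← hhy, inv_smul_smul]
  have hUsum : ∑ y ∈ Finset.univ.erase a, U y = (S.card : ℂ) • T := by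
    simp only [U]
    rw [Finset.sum_comm, Finset.sum_congr rfl (g := fun _ => T) fun g hg => ?_, Finset.sum_const,
      Nat.cast_smul_eq_nsmul]
    have hga : g • a = a := (Finset.mem_filter.1 hg).2
    refine Finset.sum_equiv (MulAction.toPerm g) (fun y => ?_) fun y _ => rfl
    simp only [Finset.mem_erase, Finset.mem_univ, and_true, MulAction.toPerm_apply, ne_eq]
    rw [← (MulAction.injective g).eq_iff (a := y) (b := a), hga]
  have hUa : U a = (S.card : ℂ) • v a := by
    simp only [U]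
    rw [Finset.sum_congr rfl (g := fun _ => v a) fun g hg => by rw [(Finset.mem_filter.1 hg).2],
      Finset.sum_const, Nat.cast_smul_eq_nsmul]
  have hrel' : ∑ y, c y • U y = 0 := by
    simp only [U, Finset.smul_sum]
    rw [Finset.sum_comm]
    refine Finset.sum_eq_zero fun g _ => ?_
    simp_rw [← hv, ← map_smul, ← map_sum, hrel, map_zero]
  obtain ⟨b, hb⟩ : ∃ b, b ≠ a := by
    by_contra! hall
    rw [Fintype.sum_eq_single a fun y hy => absurd (hall y) hy] at hsum
    exact ha hsum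
  set k : ℂ := ((Finset.univ.erase a).card : ℂ)
  have hk : k • U b = (S.card : ℂ) • T := by
    rw [← hUsum, Finset.sum_congr rfl (g := fun _ => U b)
      fun y hy => hU y b (Finset.ne_of_mem_erase hy) hb, Finset.sum_const, Nat.cast_smul_eq_nsmul]
  have hrel2 : c a • U a + (-c a) • U b = 0 := by
    rw [← Finset.add_sum_erase _ _ (Finset.mem_univ a), Finset.sum_congr rfl
      (g := fun y => c y • U b) fun y hy => by rw [hU y b (Finset.ne_of_mem_erase hy) hb],
      ← Finset.sum_smul] at hrel'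
    rw [← Finset.add_sum_erase _ _ (Finset.mem_univ a), add_eq_zero_iff_neg_eq] at hsum
    rwa [← hsum] at hrel'
  rw [neg_smul, ← sub_eq_add_neg, ← smul_sub, smul_eq_zero, sub_eq_zero] at hrel2
  have hab : U a = U b := hrel2.resolve_left ha
  have hS : (S.card : ℂ) ≠ 0 :=
    Nat.cast_ne_zero.2 (Finset.card_ne_zero.2 ⟨1, by simp [S]⟩)
  have hkey : k • v a = T := by
    refine smul_right_injective W hS ?_
    show (S.card : ℂ) • k • v a = (S.card : ℂ) • T
    rw [← hk, ← hab, hUa, smul_comm]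
  have hall : (Fintype.card X : ℂ) • v a = ∑ y, v y := by
    rw [← Finset.add_sum_erase _ _ (Finset.mem_univ a), ← Finset.card_univ,
      ← Finset.card_erase_add_one (Finset.mem_univ a), Nat.cast_add, Nat.cast_one, add_smul,
      one_smul, add_comm (v a)]
    exact congrArg (· + v a) hkey
  have hX : (Fintype.card X : ℂ) ≠ 0 :=
    Nat.cast_ne_zero.2 (have : Nonempty X := ⟨a⟩; Fintype.card_ne_zero)
  have hgen : ∀ x, (Fintype.card X : ℂ) • v x = ∑ y, v y := fun x => by
    obtain ⟨g, rfl⟩ := hP.exists_smul_eq a x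
    rw [← hv, ← map_smul, hall, map_sum]
    exact Fintype.sum_equiv (MulAction.toPerm g) _ _ fun y => hv g y
  exact fun x y => smul_right_injective W hX ((hgen x).trans (hgen y).symm)

omit [Fintype G] [Fintype X] in
/-- A vector fixed by a point stabiliser spreads to an equivariant function. -/
theorem exists_orbit_fun (hP : MulAction.IsPretransitive G X) (x₀ : X) (w : W)
    (hw : ∀ g : G, g • x₀ = x₀ → ρ g w = w) :
    ∃ v : X → W, v x₀ = w ∧ ∀ g x, ρ g (v x) = v (g • x) := by
  choose g hg using fun x => hP.exists_smul_eq x₀ x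
  have key : ∀ (h : G) (x : X), h • x₀ = x → ρ h w = ρ (g x) w := fun h x hh => by
    have h1 : ρ ((g x)⁻¹ * h) w = w := hw _ (by rw [mul_smul, hh, inv_smul_eq_iff, hg])
    conv_rhs => rw [← h1, ← Module.End.mul_apply, ← map_mul, mul_inv_cancel_left]
  refine ⟨fun x => ρ (g x) w, ?_, fun h x => ?_⟩
  · exact hw _ (hg x₀)
  · show ρ h (ρ (g x) w) = _
    rw [← Module.End.mul_apply, ← map_mul]
    exact key _ _ (by rw [mul_smul, hg])

/-- The dimension dichotomy for equivariant vectors. -/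
theorem card_le_of_orbit_fun [FiniteDimensional ℂ W] (hP : MulAction.IsPretransitive G X)
    (h2 : ∀ a y z : X, y ≠ a → z ≠ a → ∃ g : G, g • a = a ∧ g • y = z)
    (v : X → W) (hv : ∀ g x, ρ g (v x) = v (g • x)) :
    (∀ x y, v x = v y) ∨ Fintype.card X ≤ Module.finrank ℂ W + 1 := by
  by_contra! h
  obtain ⟨h, hlt⟩ := h
  let T : (X → ℂ) →ₗ[ℂ] W × ℂ :=
    { toFun := fun c => (∑ x, c x • v x, ∑ x, c x)
      map_add' := fun c d => by simp [add_smul, Finset.sum_add_distrib]
      map_smul' := fun r c => by simp [Finset.smul_sum, Finset.mul_sum, smul_smul] }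
  have hker : LinearMap.ker T ≠ ⊥ := fun e => by
    have := LinearMap.finrank_le_finrank_of_injective (LinearMap.ker_eq_bot.1 e)
    rw [Module.finrank_pi, Module.finrank_prod, Module.finrank_self] at this
    omega
  obtain ⟨c, hc, hc0⟩ := Submodule.exists_mem_ne_zero_of_ne_bot hker
  obtain ⟨h1, h3⟩ := Prod.mk.inj (LinearMap.mem_ker.1 hc : T c = (0, 0))
  obtain ⟨x, y, hxy⟩ := h
  exact hxy (eq_of_relation ρ hP h2 v hv c hc0 h3 h1 x y)

end orbit

/-! ## From irreducible to arbitrary representations -/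

universe uw

theorem ge_of_irreducible {G : Type*} [Group G] [Finite G] {B : ℕ}
    (h : ∀ (W : Type uw) [AddCommGroup W] [Module ℂ W] [FiniteDimensional ℂ W]
      (ρ : Representation ℂ G W), ρ.IsIrreducible → (∃ g, ρ g ≠ 1) → B ≤ Module.finrank ℂ W) :
    ∀ (W : Type uw) [AddCommGroup W] [Module ℂ W] [FiniteDimensional ℂ W]
      (ρ : Representation ℂ G W), (∃ g, ρ g ≠ 1) → B ≤ Module.finrank ℂ W := by
  suffices key : ∀ (d : ℕ) (W : Type uw) [AddCommGroup W] [Module ℂ W] [FiniteDimensional ℂ W]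
      (ρ : Representation ℂ G W), (∃ g, ρ g ≠ 1) → Module.finrank ℂ W = d → B ≤ d from
    fun W _ _ _ ρ hρ => key _ W ρ hρ rfl
  intro d
  induction d using Nat.strong_induction_on with
  | _ d ih =>
  intro W _ _ _ ρ hρ hd
  by_cases hirr : ρ.IsIrreducible
  · exact hd ▸ h W ρ hirr hρ
  have : Nontrivial W := by
    by_contra hn
    rw [not_nontrivial_iff_subsingleton] at hn
    obtain ⟨g, hg⟩ := hρ
    exact hg (LinearMap.ext fun w => Subsingleton.elim _ _)
  obtain ⟨U, hU, hU0, hU1⟩ : ∃ U : Submodule ℂ W, (∀ g : G, ∀ w ∈ U, ρ g w ∈ U) ∧ U ≠ ⊥ ∧ U ≠ ⊤ := by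
    by_contra! hno
    exact hirr (CharApp.isIrreducible_of_forall_invariant ρ fun U hU => or_iff_not_imp_left.2 (hno U hU))
  let σ : Representation ℂ G U :=
    { toFun := fun g => (ρ g).restrict (hU g)
      map_one' := LinearMap.ext fun v => Subtype.ext (by simp)
      map_mul' := fun x y => LinearMap.ext fun v => Subtype.ext (by simp) }
  let τ : Representation ℂ G (W ⧸ U) :=
    { toFun := fun g => U.mapQ U (ρ g) (fun w hw => hU g w hw)
      map_one' := Submodule.linearMap_qext _ (LinearMap.ext fun v => by simp)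
      map_mul' := fun x y => Submodule.linearMap_qext _ (LinearMap.ext fun v => by simp) }
  have hlt : Module.finrank ℂ U < d := hd ▸ Submodule.finrank_lt hU1
  have hq : Module.finrank ℂ (W ⧸ U) < d := by
    have h1 := Submodule.finrank_quotient_add_finrank U
    have h2 : 0 < Module.finrank ℂ U :=
      Nat.pos_of_ne_zero fun e => hU0 (Submodule.finrank_eq_zero.1 e)
    omega
  by_cases hσ : ∃ g, σ g ≠ 1
  · exact (ih _ hlt U σ hσ rfl).trans hlt.le
  by_cases hτ : ∃ g, τ g ≠ 1
  · exact (ih _ hq (W ⧸ U) τ hτ rfl).trans hq.le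
  exfalso
  push Not at hσ hτ
  obtain ⟨g, hg⟩ := hρ
  refine hg (LinearMap.ext fun v => ?_)
  have hmem : ρ g v - v ∈ U := by
    have e : Submodule.Quotient.mk (p := U) (ρ g v) = Submodule.Quotient.mk v :=
      LinearMap.congr_fun (hτ g) (Submodule.Quotient.mk v)
    exact (Submodule.Quotient.eq U).1 e
  have hfix : ρ g (ρ g v - v) = ρ g v - v :=
    congrArg Subtype.val (LinearMap.congr_fun (hσ g) ⟨_, hmem⟩)
  have hpow : ∀ k : ℕ, ρ (g ^ k) v = v + (k : ℂ) • (ρ g v - v) := fun k => by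
    induction k with
    | zero => simp
    | succ k hk =>
      rw [pow_succ', map_mul, Module.End.mul_apply, hk, map_add, map_smul, hfix, Nat.cast_succ,
        add_smul, one_smul]
      abel
  have := hpow (orderOf g)
  rw [pow_orderOf_eq_one, map_one, Module.End.one_apply, left_eq_add, smul_eq_zero, sub_eq_zero]
    at this
  exact this.resolve_left (Nat.cast_ne_zero.2 (orderOf_pos g).ne')

/-! ## Normal generation by the radical -/

variable {F : Type*} [Field F] {m : ℕ}

theorem uSL_single (i : Fin m) (c : F) :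
    uSL (Pi.single i c) = SpecialLinearGroup.transvection
      (show (Sum.inr 0 : Fin m ⊕ Fin 1) ≠ Sum.inl i from Sum.inr_ne_inl) c := by
  refine Linear.sl_ext_smul fun v => funext fun k => ?_
  rw [Linear.transvection_smul_apply]
  show (fromBlocks 1 0 (Matrix.replicateRow (Fin 1) (Pi.single i c)) 1 *ᵥ v) k = _
  rw [blk_mulVec]
  rcases k with k | k
  · simp
  · simp [Matrix.mulVec, dotProduct, Pi.single_apply, Subsingleton.elim k 0, add_comm]

theorem eq_one_of_uSL {M : Type*} [Monoid M] (hm : 2 ≤ m)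
    (φ : SpecialLinearGroup (Fin m ⊕ Fin 1) F →* M) (h : ∀ x, φ (uSL x) = 1) : ∀ g, φ g = 1 := by
  let K := φ.toHomUnits.ker
  have hK : K.Normal := inferInstance
  have hmem : ∀ g, g ∈ K ↔ φ g = 1 := fun g => by
    rw [MonoidHom.mem_ker, Units.ext_iff]; rfl
  have hr : ∀ (i : Fin m) (hne : (Sum.inr 0 : Fin m ⊕ Fin 1) ≠ Sum.inl i) (c : F),
      SpecialLinearGroup.transvection hne c ∈ K := fun i hne c => by
    rw [hmem, ← uSL_single, h]
  have hl : ∀ (i j : Fin m) (hne : (Sum.inl i : Fin m ⊕ Fin 1) ≠ Sum.inl j) (c : F),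
      SpecialLinearGroup.transvection hne c ∈ K := fun i j hne c => by
    rw [show c = c * 1 from (mul_one c).symm, ← Linear.transvection_mul_comm
      (show (Sum.inl i : Fin m ⊕ Fin 1) ≠ Sum.inr 0 from Sum.inl_ne_inr)
      (show (Sum.inr 0 : Fin m ⊕ Fin 1) ≠ Sum.inl j from Sum.inr_ne_inl) hne, commutatorElement_def]
    exact mul_mem (hK.conj_mem _ (hr j _ 1) _) (inv_mem (hr j _ 1))
  have : Nontrivial (Fin m) := Fintype.one_lt_card_iff_nontrivial.1 (by rw [Fintype.card_fin]; omega)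
  have hu : ∀ (i : Fin m) (hne : (Sum.inl i : Fin m ⊕ Fin 1) ≠ Sum.inr 0) (c : F),
      SpecialLinearGroup.transvection hne c ∈ K := fun i hne c => by
    obtain ⟨k, hk⟩ := exists_ne i
    rw [show c = c * 1 from (mul_one c).symm, ← Linear.transvection_mul_comm
      (show (Sum.inl i : Fin m ⊕ Fin 1) ≠ Sum.inl k by simp [hk.symm])
      (show (Sum.inl k : Fin m ⊕ Fin 1) ≠ Sum.inr 0 from Sum.inl_ne_inr) hne, commutatorElement_def]
    rw [mul_assoc, mul_assoc, ← mul_assoc (SpecialLinearGroup.transvection _ (1 : F))]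
    exact mul_mem (hl i k _ c) (hK.conj_mem _ (inv_mem (hl i k _ c)) _)
  have htop : K = ⊤ := by
    rw [eq_top_iff, ← Linear.closure_slTvSet, Subgroup.closure_le]
    rintro _ ⟨a, b, hab, c, rfl⟩
    rcases a with i | i <;> rcases b with j | j
    · exact hl i j hab c
    · obtain rfl : j = 0 := Subsingleton.elim _ _
      exact hu i hab c
    · obtain rfl : i = 0 := Subsingleton.elim _ _
      exact hr j hab c
    · exact absurd (congrArg Sum.inr (Subsingleton.elim i j)) hab
  exact fun g => (hmem g).1 (htop ▸ Subgroup.mem_top g)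

end Cfsg.Agent.SLDeg
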